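import Cfsg.Agent.H59.A5Char
import Cfsg.Agent.S2325

/-!
Three facts on `SL(2,5)`: the class number, perfectness and a central involution.
-/

set_option autoImplicit false

namespace H13.TwoClass

open H59
open scoped commutatorElement

theorem sl25_classes : Nat.card (ConjClasses SL25) = 9 := by
  haveI : Fact (Nat.Prime 5) := ⟨by norm_num⟩
  rw [Cfsg.Agent.S2325.result (F := ZMod 5) (by rw [ZMod.card]; decide), ZMod.card]

def wa : SL25 := ⟨!![0, 2; 2, 0], by decide⟩
def wb : SL25 := ⟨!![0, 1; 4, 1], by decide⟩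
def wc : SL25 := ⟨!![1, 3; 0, 1], by decide⟩
def wd : SL25 := ⟨!![2, 0; 0, 3], by decide⟩

theorem gens_comm : wa * wb * wa⁻¹ * wb⁻¹ = xs ∧ wc * wd * wc⁻¹ * wd⁻¹ = gT5 := by
  decide +kernel

theorem sl25_perfect : commutator SL25 = ⊤ := by
  rw [eq_top_iff, ← closure_xs, Subgroup.closure_le]
  rintro x (rfl | rfl)
  · rw [← gens_comm.1]
    exact Subgroup.commutator_mem_commutator (Subgroup.mem_top wa) (Subgroup.mem_top wb)
  · rw [← gens_comm.2]
    exact Subgroup.commutator_mem_commutator (Subgroup.mem_top wc) (Subgroup.mem_top wd)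

theorem sl25_invol : ∃ z : SL25, z ≠ 1 ∧ z * z = 1 ∧ ∀ g, g * z = z * g := by
  refine ⟨-1, ?_, by simp, fun g => by simp⟩
  decide +kernel

/-- A perfect group maps trivially to a solvable group. -/
theorem hom_trivial {G M : Type*} [Group G] [Group M] [Group.IsSolvable M]
    (hperf : commutator G = ⊤) (f : G →* M) (g : G) : f g = 1 := by
  obtain ⟨n, hn⟩ := Group.IsSolvable.solvable (G := M)
  have htop : ∀ k, derivedSeries G k = ⊤ := by
    intro k
    induction k with
    | zero => exact derivedSeries_zero G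
    | succ k ih => rw [derivedSeries_succ, ih, ← commutator_def, hperf]
  have h : f g ∈ derivedSeries M n :=
    map_derivedSeries_le_derivedSeries f n ⟨g, (htop n).symm ▸ Subgroup.mem_top g, rfl⟩
  rwa [hn, Subgroup.mem_bot] at h

end H13.TwoClass
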