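import Cfsg.Agent.H13.TwoClass.Classes
import Cfsg.Agent.H13.TwoClass.SL25
import Cfsg.Agent.H58.Base.Orbits

/-!
An extension of an abelian group of order prime to `11`, whose non-identity elements are conjugate,
by `SL(2,5)` has at least eleven classes.
-/

set_option autoImplicit false
set_option linter.style.haveILetI false
set_option linter.unusedSectionVars false

namespace H13.TwoClass

open H59

variable {K : Type*} [Group K] [Finite K] (ψ : K →* SL25)

/-- The permutation groups on at most four points are solvable. -/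
theorem perm_solvable {Y : Type*} [Finite Y] (h : Nat.card Y ≤ 4) :
    Group.IsSolvable (Equiv.Perm Y) := by
  haveI := H58.Base.isSolvable_perm_four
  obtain ⟨f⟩ : Nonempty (Y ↪ Fin 4) := by
    haveI := Fintype.ofFinite Y
    rw [Nat.card_eq_fintype_card] at h
    exact Function.Embedding.nonempty_of_card_le (by rw [Fintype.card_fin]; exact h)
  exact Group.isSolvable_of_isSolvable_injective
    (f := Equiv.Perm.viaEmbeddingHom f) (Equiv.Perm.viaEmbeddingHom_injective f)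

/-- The bound for the extension. -/
theorem extension_classes (hψ : Function.Surjective ψ) (hne : ψ.ker ≠ ⊥)
    (hab : ∀ a ∈ ψ.ker, ∀ b ∈ ψ.ker, a * b = b * a)
    (htr : ∀ a ∈ ψ.ker, ∀ b ∈ ψ.ker, a ≠ 1 → b ≠ 1 → IsConj a b)
    (h11 : ¬ 11 ∣ Nat.card ψ.ker) : 11 ≤ Nat.card (ConjClasses K) := by
  classical
  obtain ⟨o, ho, ho1⟩ := (Subgroup.bot_or_exists_ne_one ψ.ker).resolve_left hne
  have h1o : ¬ IsConj (1 : K) o := fun h => ho1 (isConj_one_right.1 h)
  have hone : ψ 1 = ψ o := by rw [map_one, MonoidHom.mem_ker.1 ho]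
  suffices ∃ c d : K, ψ c = ψ d ∧ ¬ IsConj c d ∧ ψ c ≠ 1 by
    obtain ⟨c, d, hcd, hncd, hc1⟩ := this
    have := classes_add_two ψ hψ hone hcd h1o hncd
      (fun h => hc1 (isConj_one_right.1 (by rwa [map_one] at h)))
    rw [sl25_classes] at this
    exact this
  obtain ⟨z, hz1, hzz, hzc⟩ := sl25_invol
  -- the kernel is elementary
  obtain ⟨r, hr, hrdvd⟩ := Nat.exists_prime_and_dvd (n := Nat.card ψ.ker)
    (fun h => hne (Subgroup.eq_bot_of_card_eq _ h))
  haveI := Fact.mk hr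
  obtain ⟨o₀, ho₀⟩ := exists_prime_orderOf_dvd_card' (G := ψ.ker) r hrdvd
  have hexp : ∀ a ∈ ψ.ker, a ≠ 1 → orderOf a = r := by
    intro a ha ha1
    have hne' : (o₀ : K) ≠ 1 := fun e => hr.ne_one (by
      rw [← ho₀, ← Subgroup.orderOf_coe, e, orderOf_one])
    obtain ⟨c, hc⟩ := isConj_iff.1 (htr _ o₀.2 a ha hne' ha1)
    rw [← hc, show c * (o₀ : K) * c⁻¹ = MulAut.conj c (o₀ : K) from rfl, MulEquiv.orderOf_eq,
      Subgroup.orderOf_coe, ho₀]
  have hpow : ∀ a ∈ ψ.ker, a ^ r = 1 := fun a ha => by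
    rcases eq_or_ne a 1 with rfl | ha1
    · exact one_pow r
    · rw [← hexp a ha ha1, pow_orderOf_eq_one]
  obtain ⟨t₀, ht₀⟩ := hψ z
  have hn := MonoidHom.normal_ker ψ
  -- whatever centralises one non-identity element, and is central modulo the kernel, centralises all
  have hall : ∀ t : K, ψ t = z → ∀ a ∈ ψ.ker, a ≠ 1 → t * a = a * t →
      ∀ b ∈ ψ.ker, t * b = b * t := by
    intro t ht a ha ha1 hta b hb
    rcases eq_or_ne b 1 with rfl | hb1
    · simp
    obtain ⟨g, hg⟩ := isConj_iff.1 (htr a ha b hb ha1 hb1)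
    have hd : g⁻¹ * t * g * t⁻¹ ∈ ψ.ker := by
      rw [MonoidHom.mem_ker, map_mul, map_mul, map_mul, map_inv, map_inv, ht,
        mul_assoc (ψ g)⁻¹, ← hzc, inv_mul_cancel_left, mul_inv_cancel]
    have h2 : (g⁻¹ * t * g) * a = a * (g⁻¹ * t * g) := by
      have : g⁻¹ * t * g = (g⁻¹ * t * g * t⁻¹) * t := by group
      rw [this, mul_assoc, hta, ← mul_assoc, hab _ hd _ ha, mul_assoc]
    calc t * b = g * ((g⁻¹ * t * g) * a) * g⁻¹ := by rw [← hg]; group
      _ = g * (a * (g⁻¹ * t * g)) * g⁻¹ := by rw [h2]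
      _ = b * t := by rw [← hg]; group
  rcases eq_or_ne r 2 with rfl | hr2
  · -- a `2`-group below
    have ht2 : t₀ * t₀ ∈ ψ.ker := by rw [MonoidHom.mem_ker, map_mul, ht₀, hzz]
    have hcent : ∀ b ∈ ψ.ker, t₀ * b = b * t₀ := by
      by_cases h : t₀ * o = o * t₀
      · exact hall t₀ ht₀ o ho ho1 h
      have hc : t₀ * o * t₀⁻¹ ∈ ψ.ker := hn.conj_mem o ho t₀
      have hoinv : o⁻¹ = o := inv_eq_of_mul_eq_one_right (by rw [← sq]; exact hpow o ho)
      refine hall t₀ ht₀ (o * (t₀ * o * t₀⁻¹)) (mul_mem ho hc) ?_ ?_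
      · intro e
        refine h (mul_inv_eq_iff_eq_mul.1 ?_)
        rw [eq_inv_of_mul_eq_one_right e, hoinv]
      · have h2 : (t₀ * t₀) * o * (t₀ * t₀)⁻¹ = o := by
          rw [hab _ ht2 _ ho, mul_inv_cancel_right]
        have h3 : t₀ * (o * (t₀ * o * t₀⁻¹)) * t₀⁻¹ = o * (t₀ * o * t₀⁻¹) := by
          calc t₀ * (o * (t₀ * o * t₀⁻¹)) * t₀⁻¹
              = (t₀ * o * t₀⁻¹) * ((t₀ * t₀) * o * (t₀ * t₀)⁻¹) := by group
            _ = o * (t₀ * o * t₀⁻¹) := by rw [h2, hab _ hc _ ho]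
        exact mul_inv_eq_iff_eq_mul.1 h3
    by_contra hcon
    push Not at hcon
    have hsame : ∀ y, ψ y = z → IsConj t₀ y := fun y hy => by
      by_contra h
      exact hz1 (ht₀ ▸ hcon t₀ y (ht₀.trans hy.symm) h)
    let Y := {y : K // ψ y = z}
    have hconjY : ∀ (g y : K), ψ y = z → ψ (g * y * g⁻¹) = z := fun g y hy => by
      rw [map_mul, map_mul, map_inv, hy, hzc, mul_inv_cancel_right]
    letI : MulAction K Y :=
      { smul := fun g y => ⟨g * y.1 * g⁻¹, hconjY g y.1 y.2⟩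
        one_smul := fun y => Subtype.ext (by show (1 : K) * y.1 * 1⁻¹ = y.1; group)
        mul_smul := fun g g' y => Subtype.ext (by
          show g * g' * y.1 * (g * g')⁻¹ = g * (g' * y.1 * g'⁻¹) * g⁻¹
          group) }
    have hsmul : ∀ (g : K) (y : Y), ((g • y : Y) : K) = g * y.1 * g⁻¹ := fun g y => rfl
    let y₀ : Y := ⟨t₀, ht₀⟩
    have hYcard : Nat.card Y = Nat.card ψ.ker := Nat.card_congr
      { toFun := fun y => ⟨t₀⁻¹ * y.1, by rw [MonoidHom.mem_ker, map_mul, map_inv, ht₀, y.2,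
          inv_mul_cancel]⟩
        invFun := fun a => ⟨t₀ * a.1, by rw [map_mul, ht₀, MonoidHom.mem_ker.1 a.2, mul_one]⟩
        left_inv := fun y => Subtype.ext (mul_inv_cancel_left t₀ y.1)
        right_inv := fun a => Subtype.ext (inv_mul_cancel_left t₀ a.1) }
    have horb : MulAction.orbit K y₀ = Set.univ := by
      refine Set.eq_univ_of_forall fun y => ?_
      obtain ⟨c, hc⟩ := isConj_iff.1 (hsame y.1 y.2)
      exact ⟨c, Subtype.ext hc⟩
    have hstab : (MulAction.stabilizer K y₀).index = Nat.card Y := by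
      rw [MulAction.index_stabilizer, horb, Set.ncard_univ]
    have hle : (Subgroup.zpowers z).comap ψ ≤ MulAction.stabilizer K y₀ := by
      intro g hg
      obtain ⟨i, hi⟩ := Subgroup.mem_zpowers_iff.1 (Subgroup.mem_comap.1 hg)
      have hg' : t₀ ^ (-i) * g ∈ ψ.ker := by
        rw [MonoidHom.mem_ker, map_mul, map_zpow, ht₀, zpow_neg, hi, inv_mul_cancel]
      have hc : Commute t₀ g := by
        have h1 : Commute t₀ (t₀ ^ i * (t₀ ^ (-i) * g)) :=
          ((Commute.refl t₀).zpow_right i).mul_right (hcent _ hg')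
        rwa [← mul_assoc, ← zpow_add, add_neg_cancel, zpow_zero, one_mul] at h1
      exact Subtype.ext (by rw [hsmul]; exact mul_inv_eq_iff_eq_mul.2 hc.eq.symm)
    have h60 : Nat.card Y ∣ 60 := by
      rw [← hstab]
      refine (Subgroup.index_dvd_of_le hle).trans (dvd_of_eq ?_)
      rw [Subgroup.index_comap_of_surjective _ hψ]
      have := (Subgroup.zpowers z).card_mul_index
      rw [Nat.card_zpowers, orderOf_eq_prime (show z ^ 2 = 1 by rw [sq, hzz]) hz1, card_SL25] at this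
      omega
    have hY4 : Nat.card Y ≤ 4 := by
      obtain ⟨m, hm⟩ : ∃ m, Nat.card ψ.ker = 2 ^ m := (IsPGroup.iff_card (p := 2)).1 fun a =>
        ⟨1, Subtype.ext (by rw [pow_one]; exact hpow _ a.2)⟩
      rw [hYcard, hm] at h60 ⊢
      rcases Nat.lt_or_ge m 3 with hlt | hge
      · calc 2 ^ m ≤ 2 ^ 2 := Nat.pow_le_pow_right (by norm_num) (by omega)
          _ = 4 := by norm_num
      · exact absurd ((Nat.pow_dvd_pow 2 hge).trans h60) (by norm_num)
    haveI := perm_solvable hY4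
    have hker : ψ.ker ≤ (MulAction.toPermHom K Y).ker := by
      intro a ha
      refine MonoidHom.mem_ker.2 (Equiv.ext fun y => Subtype.ext ?_)
      show a * y.1 * a⁻¹ = y.1
      have hy : t₀⁻¹ * y.1 ∈ ψ.ker := by
        rw [MonoidHom.mem_ker, map_mul, map_inv, ht₀, y.2, inv_mul_cancel]
      refine mul_inv_eq_iff_eq_mul.2 ?_
      calc a * y.1 = a * t₀ * (t₀⁻¹ * y.1) := by group
        _ = t₀ * (a * (t₀⁻¹ * y.1)) := by rw [← hcent a ha, mul_assoc]
        _ = y.1 * a := by rw [hab _ ha _ hy, mul_assoc, mul_inv_cancel_left]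
    let φ : SL25 →* Equiv.Perm Y := ψ.liftOfSurjective hψ ⟨MulAction.toPermHom K Y, hker⟩
    have hφ : ∀ g, φ (ψ g) = MulAction.toPermHom K Y g := fun g =>
      MonoidHom.liftOfRightInverse_comp_apply _ _ _ _ g
    have hsub : Nat.card Y = 1 := by
      rw [Nat.card_eq_one_iff_unique]
      refine ⟨⟨fun a b => ?_⟩, ⟨y₀⟩⟩
      have hfix : ∀ y : Y, y = y₀ := fun y => by
        obtain ⟨g, hg⟩ : y ∈ MulAction.orbit K y₀ := horb ▸ Set.mem_univ y
        rw [← hg]
        show MulAction.toPermHom K Y g y₀ = y₀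
        rw [← hφ, hom_trivial sl25_perfect φ]
        rfl
      rw [hfix a, hfix b]
    exact hne (Subgroup.eq_bot_of_card_eq _ (hYcard ▸ hsub))
  -- an odd kernel
  have hrodd : Odd r := hr.odd_of_ne_two hr2
  obtain ⟨q, hq⟩ := hrodd
  set t := t₀ ^ r with ht
  have htz : ψ t = z := by
    rw [ht, map_pow, ht₀, hq, pow_succ, pow_mul, sq, hzz, one_pow, one_mul]
  have htt : t * t = 1 := by
    rw [ht, ← (Commute.refl t₀).mul_pow]
    exact hpow _ (by rw [MonoidHom.mem_ker, map_mul, ht₀, hzz])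
  by_cases hfix : ∃ a ∈ ψ.ker, a ≠ 1 ∧ t * a = a * t
  · obtain ⟨a, ha, ha1, hta⟩ := hfix
    refine ⟨t, t * a, by rw [map_mul, MonoidHom.mem_ker.1 ha, mul_one], fun h => ?_, htz ▸ hz1⟩
    obtain ⟨c, hc⟩ := isConj_iff.1 h
    have h1 : (t * a) * (t * a) = 1 := by
      rw [← hc]
      calc c * t * c⁻¹ * (c * t * c⁻¹) = c * (t * t) * c⁻¹ := by group
        _ = 1 := by rw [htt, mul_one, mul_inv_cancel]
    rw [mul_assoc, ← mul_assoc a t, ← hta, ← mul_assoc, ← mul_assoc, htt, one_mul] at h1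
    have hd : orderOf a ∣ 2 := orderOf_dvd_of_pow_eq_one (by rw [sq, h1])
    rw [hexp a ha ha1, Nat.prime_dvd_prime_iff_eq hr Nat.prime_two] at hd
    exact hr2 hd
  push Not at hfix
  have hinv : ∀ a ∈ ψ.ker, t * a * t = a⁻¹ := by
    intro a ha
    have htinv : t⁻¹ = t := inv_eq_of_mul_eq_one_right htt
    have hc : t * a * t ∈ ψ.ker := by
      have := hn.conj_mem a ha t
      rwa [htinv] at this
    by_contra hne'
    refine hfix (a * (t * a * t)) (mul_mem ha hc) (fun e => hne' (eq_inv_of_mul_eq_one_right e)) ?_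
    calc t * (a * (t * a * t)) = (t * a * t) * (a * t) := by group
      _ = (t * a * t) * a * t := by rw [mul_assoc (t * a * t)]
      _ = a * (t * a * t) * t := by rw [hab _ hc _ ha]
  -- the centraliser of `t` is a complement
  set C := Subgroup.centralizer ({t} : Set K) with hC
  have hCmem : ∀ c, c ∈ C ↔ c * t = t * c := fun c => Subgroup.mem_centralizer_singleton_iff
  have hCinj : ∀ c ∈ C, ∀ d ∈ C, ψ c = ψ d → c = d := by
    intro c hc d hd h
    have hk : c⁻¹ * d ∈ ψ.ker := by rw [MonoidHom.mem_ker, map_mul, map_inv, h, inv_mul_cancel]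
    by_contra hne'
    exact hfix _ hk (fun e => hne' (inv_mul_eq_one.1 e)) ((hCmem _).1 (mul_mem (inv_mem hc) hd)).symm
  have hdec : ∀ g : K, ∃ a ∈ ψ.ker, ∃ c ∈ C, g = a * c := by
    intro g
    have hd : t * (g * t * g⁻¹) ∈ ψ.ker := by
      rw [MonoidHom.mem_ker, map_mul, map_mul, map_mul, map_inv, htz, hzc, mul_inv_cancel_right, hzz]
    set d := t * (g * t * g⁻¹) with hd'
    have hgt : g * t * g⁻¹ = t * d := by rw [hd', ← mul_assoc, htt, one_mul]
    set a := d ^ q with ha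
    have hak : a ∈ ψ.ker := pow_mem hd q
    refine ⟨a, hak, a⁻¹ * g, (hCmem _).2 ?_, (mul_inv_cancel_left a g).symm⟩
    have hta : t * a * t = a⁻¹ := hinv a hak
    have hadd : a⁻¹ * a⁻¹ = d := by
      rw [← mul_inv_rev, inv_eq_iff_mul_eq_one, ha, ← pow_add, ← pow_succ,
        show q + q + 1 = r by omega]
      exact hpow d hd
    have key : a * t * a⁻¹ = t * d := by
      rw [← hadd, ← mul_assoc]
      congr 1
      rw [← hta, ← mul_assoc, ← mul_assoc, htt, one_mul]
    calc a⁻¹ * g * t = a⁻¹ * (g * t * g⁻¹) * g := by group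
      _ = a⁻¹ * (a * t * a⁻¹) * g := by rw [hgt, key]
      _ = t * (a⁻¹ * g) := by group
  have hCcard : Nat.card C = 120 := by
    rw [← card_SL25]
    refine Nat.card_eq_of_bijective (fun c : C => ψ c) ⟨fun c d h => ?_, fun s => ?_⟩
    · exact Subtype.ext (hCinj c c.2 d d.2 h)
    · obtain ⟨g, rfl⟩ := hψ s
      obtain ⟨a, ha, c, hc, rfl⟩ := hdec g
      exact ⟨⟨c, hc⟩, by rw [map_mul, MonoidHom.mem_ker.1 ha, one_mul]⟩
  -- some element of the complement fixes a non-identity element of the kernel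
  obtain ⟨h, hhC, hh1, a, ha, ha1, hha⟩ :
      ∃ h ∈ C, h ≠ 1 ∧ ∃ a ∈ ψ.ker, a ≠ 1 ∧ h * a = a * h := by
    by_contra hno
    push Not at hno
    have hcard : Nat.card C = Nat.card {a : ψ.ker // a ≠ 1} := by
      refine Nat.card_eq_of_bijective
        (fun c : C => ⟨⟨(c : K) * o * (c : K)⁻¹, hn.conj_mem o ho _⟩, fun e => ho1
          (conj_eq_one_iff.1 (congrArg Subtype.val e))⟩) ⟨fun c d e => ?_, fun b => ?_⟩
      · have e' : (c : K) * o * (c : K)⁻¹ = (d : K) * o * (d : K)⁻¹ :=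
          congrArg (fun x => ((x : ψ.ker) : K)) (congrArg Subtype.val e)
        by_contra hne'
        refine hno ((d : K)⁻¹ * c) (mul_mem (inv_mem d.2) c.2)
          (fun h => hne' (Subtype.ext (inv_mul_eq_one.1 h).symm)) o ho ho1 ?_
        calc (d : K)⁻¹ * c * o = (d : K)⁻¹ * ((c : K) * o * (c : K)⁻¹) * c := by group
          _ = o * ((d : K)⁻¹ * c) := by rw [e']; group
      · obtain ⟨g, hg⟩ := isConj_iff.1 (htr o ho b.1.1 b.1.2 ho1
          fun e => b.2 (Subtype.ext e))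
        obtain ⟨x, hx, c, hc, rfl⟩ := hdec g
        refine ⟨⟨c, hc⟩, Subtype.ext (Subtype.ext ?_)⟩
        show c * o * c⁻¹ = b.1.1
        rw [← hg]
        calc c * o * c⁻¹ = x * (c * o * c⁻¹) * x⁻¹ := by
              rw [hab _ hx _ (hn.conj_mem o ho c), mul_inv_cancel_right]
          _ = x * c * o * (x * c)⁻¹ := by group
    have hker : Nat.card ψ.ker = 121 := by
      haveI := Fintype.ofFinite ψ.ker
      rw [hCcard, Nat.card_eq_fintype_card, Fintype.card_subtype_compl,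
        Fintype.card_subtype_eq, ← Nat.card_eq_fintype_card] at hcard
      omega
    exact h11 (by rw [hker]; norm_num)
  let f : ψ.ker → ψ.ker := fun x =>
    ⟨x.1 * (h * x.1⁻¹ * h⁻¹), mul_mem x.2 (hn.conj_mem _ (inv_mem x.2) h)⟩
  obtain ⟨d, hd⟩ : ∃ d : ψ.ker, ∀ x, f x ≠ d := by
    by_contra hall'
    push Not at hall'
    have hinj : Function.Injective f := Finite.injective_iff_surjective.2 hall'
    refine ha1 (congrArg Subtype.val (@hinj ⟨a, ha⟩ 1 (Subtype.ext ?_)))
    show a * (h * a⁻¹ * h⁻¹) = 1 * (h * 1⁻¹ * h⁻¹)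
    rw [show h * a⁻¹ = a⁻¹ * h from (Commute.inv_right hha).eq]
    group
  refine ⟨h, d.1 * h, by rw [map_mul, MonoidHom.mem_ker.1 d.2, one_mul], fun hcon => ?_, ?_⟩
  · obtain ⟨g, hg⟩ := isConj_iff.1 hcon
    obtain ⟨x, hx, c, hc, rfl⟩ := hdec g
    have h1 : c * h * c⁻¹ = h := by
      refine hCinj _ (mul_mem (mul_mem hc hhC) (inv_mem hc)) _ hhC ?_
      have := congrArg ψ hg
      simp only [map_mul, map_inv, MonoidHom.mem_ker.1 hx, MonoidHom.mem_ker.1 d.2, one_mul] at this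
      simpa only [map_mul, map_inv] using this
    refine hd ⟨x, hx⟩ (Subtype.ext ?_)
    show x * (h * x⁻¹ * h⁻¹) = d.1
    rw [show x * c * h * (x * c)⁻¹ = x * (c * h * c⁻¹) * x⁻¹ by group, h1] at hg
    calc x * (h * x⁻¹ * h⁻¹) = (x * h * x⁻¹) * h⁻¹ := by group
      _ = d.1 := by rw [hg, mul_inv_cancel_right]
  · exact fun e => hh1 (hCinj h hhC 1 (one_mem C) (by rw [e, map_one]))

end H13.TwoClass
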