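import Cfsg.Agent.H13.TwoClass.Classes
import Cfsg.Agent.H13.TwoClass.SL25
import Cfsg.Agent.H23.KGV.Semilinear
import Cfsg.Agent.H2.RegularIndexTwo
import Cfsg.Agent.H58.RegularLinearSL25

/-!
Groups regular on the non-zero vectors of a plane over a field with `p ≥ 5` elements have at least
`p` classes, except `SL(2,5)` for `p = 11`.
-/

set_option autoImplicit false
set_option linter.style.haveILetI false
set_option linter.unusedSectionVars false

namespace H13.TwoClass

open H58.RegLin

variable {p : ℕ} [Fact p.Prime] {V : Type*} [AddCommGroup V] [Module (ZMod p) V] [Finite V]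
  {H : Subgroup (V ≃ₗ[ZMod p] V)}

/-- The involution is the inversion, hence central. -/
theorem central_invol (hreg : Reg H) {g : H} (hg : g * g = 1) : ∀ x : H, x * g = g * x := by
  rcases eq_or_ne g 1 with rfl | hne
  · simp
  have hneg : ∀ v : V, (g : V ≃ₗ[ZMod p] V) v = -v := by
    intro v
    by_contra hv
    have h1 : (g : V ≃ₗ[ZMod p] V) v + v ≠ 0 := fun e => hv (eq_neg_of_add_eq_zero_left e)
    refine hne (fpf hreg h1 ?_)
    have h2 : ((g * g : H) : V ≃ₗ[ZMod p] V) v = v := by rw [hg]; rfl
    rw [map_add, show (g : V ≃ₗ[ZMod p] V) ((g : V ≃ₗ[ZMod p] V) v) = v from h2, add_comm]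
  intro x
  refine Subtype.ext (LinearEquiv.ext fun v => ?_)
  show (x : V ≃ₗ[ZMod p] V) ((g : V ≃ₗ[ZMod p] V) v) = (g : V ≃ₗ[ZMod p] V) ((x : V ≃ₗ[ZMod p] V) v)
  rw [hneg, hneg, map_neg]

/-- Orders `24` and `48`. -/
theorem small_regular (hreg : Reg H) (hnc : ∃ a b : H, a * b ≠ b * a)
    (hc : Nat.card H = 24 ∧ p = 5 ∨ Nat.card H = 48 ∧ p = 7) :
    p ≤ Nat.card (ConjClasses H) := by
  classical
  haveI := finite_group (H := H)
  haveI := Fintype.ofFinite H
  haveI : Fact (Nat.Prime 2) := ⟨Nat.prime_two⟩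
  haveI : Fact (Nat.Prime 3) := ⟨Nat.prime_three⟩
  obtain ⟨z, hz⟩ := exists_prime_orderOf_dvd_card' (G := H) 2
    (by rcases hc with ⟨h, -⟩ | ⟨h, -⟩ <;> rw [h] <;> norm_num)
  obtain ⟨x, hx⟩ := exists_prime_orderOf_dvd_card' (G := H) 3
    (by rcases hc with ⟨h, -⟩ | ⟨h, -⟩ <;> rw [h] <;> norm_num)
  have hzz : z * z = 1 := by rw [← sq, ← hz, pow_orderOf_eq_one]
  have hzc := central_invol hreg hzz
  -- the classes, counted by size
  have hcomm : ∀ g : H, Commute z g := fun g => (hzc g).symm
  have hsix : orderOf (z * x) = 6 := by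
    rw [(hcomm x).orderOf_mul_eq_mul_orderOf_of_coprime (by rw [hz, hx]; norm_num), hz, hx]
  have hbig : ∀ g : H, ∀ n : ℕ, n ∣ orderOf g → 2 ≤ n →
      n ≤ Nat.card (Subgroup.centralizer ({g} : Set H)) := by
    intro g n hn h2
    refine (Nat.le_of_dvd (orderOf_pos g) hn).trans ?_
    rw [← Nat.card_zpowers]
    exact Subgroup.card_le_of_le (Subgroup.zpowers_le.2 (Subgroup.mem_centralizer_singleton_iff.2 rfl))
  have hzcent : ∀ g : H, z ∈ Subgroup.centralizer ({g} : Set H) := fun g =>
    Subgroup.mem_centralizer_singleton_iff.2 (hcomm g).eq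
  have h4 : ∀ g : H, g ≠ 1 → g ≠ z → 4 ≤ Nat.card (Subgroup.centralizer ({g} : Set H)) := by
    intro g hg1 hgz
    by_cases hg2 : g * g = 1
    · exfalso
      have hu : ∀ v : V, v ≠ 0 → ((g * z : H) : V ≃ₗ[ZMod p] V) v = v → g * z = 1 :=
        fun v hv => fpf hreg hv
      have hgneg : ∀ (w : H), w * w = 1 → w ≠ 1 → ∀ v : V, (w : V ≃ₗ[ZMod p] V) v = -v := by
        intro w hw hw1 v
        by_contra hv
        have h1 : (w : V ≃ₗ[ZMod p] V) v + v ≠ 0 := fun e => hv (eq_neg_of_add_eq_zero_left e)
        refine hw1 (fpf hreg h1 ?_)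
        have h2 : ((w * w : H) : V ≃ₗ[ZMod p] V) v = v := by rw [hw]; rfl
        rw [map_add, show (w : V ≃ₗ[ZMod p] V) ((w : V ≃ₗ[ZMod p] V) v) = v from h2, add_comm]
      have hz1 : z ≠ 1 := fun e => by rw [e, orderOf_one] at hz; omega
      exact hgz (Subtype.ext (LinearEquiv.ext fun v => by rw [hgneg g hg2 hg1 v, hgneg z hzz hz1 v]))
    · have ho : 3 ≤ orderOf g := by
        have h1 := orderOf_pos g
        have h2 : orderOf g ≠ 1 := fun e => hg1 (orderOf_eq_one_iff.1 e)
        have h3 : orderOf g ≠ 2 := fun e => hg2 (by rw [← sq, ← e, pow_orderOf_eq_one])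
        omega
      by_cases ho3 : orderOf g = 3
      · have h6 : orderOf (z * g) = 6 := by
          rw [(hcomm g).orderOf_mul_eq_mul_orderOf_of_coprime (by rw [hz, ho3]; norm_num), hz, ho3]
        refine le_trans (by norm_num : 4 ≤ 6) ?_
        rw [← h6, ← Nat.card_zpowers]
        exact Subgroup.card_le_of_le (Subgroup.zpowers_le.2
          (mul_mem (hzcent g) (Subgroup.mem_centralizer_singleton_iff.2 rfl)))
      · exact le_trans (by omega) (hbig g _ dvd_rfl (by omega))
  have h6x : ∀ g : H, (g = x ∨ g = z * x) →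
      6 ≤ Nat.card (Subgroup.centralizer ({g} : Set H)) := by
    intro g hg
    rw [← hsix, ← Nat.card_zpowers]
    refine Subgroup.card_le_of_le (Subgroup.zpowers_le.2 ?_)
    rcases hg with rfl | rfl
    · exact mul_mem (hzcent _) (Subgroup.mem_centralizer_singleton_iff.2 rfl)
    · exact Subgroup.mem_centralizer_singleton_iff.2 rfl
  -- class sizes
  let size : ConjClasses H → ℕ := fun c => Nat.card c.carrier
  have hsize : ∀ g : H, size (ConjClasses.mk g) * Nat.card (Subgroup.centralizer ({g} : Set H)) =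
      Nat.card H := fun g => by
    have h := (MulAction.stabilizer (ConjAct H) g).index_mul_card
    rw [MulAction.index_stabilizer, ConjAct.orbit_eq_carrier_conjClasses,
      ConjAct.stabilizer_eq_centralizer] at h
    show Nat.card (ConjClasses.mk g).carrier * _ = _
    rw [Nat.card_coe_set_eq]
    exact h
  haveI := Fintype.ofFinite (ConjClasses H)
  have htot : ∑ c : ConjClasses H, size c = Nat.card H := by
    show ∑ c : ConjClasses H, Nat.card c.carrier = _
    simp only [Nat.card_eq_fintype_card]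
    simp only [← Set.toFinset_card]
    exact sum_conjClasses_card_eq_card H
  let s : Finset (ConjClasses H) :=
    {ConjClasses.mk 1, ConjClasses.mk z, ConjClasses.mk x, ConjClasses.mk (z * x)}
  have hne : ∀ a b : H, orderOf a ≠ orderOf b → ConjClasses.mk a ≠ ConjClasses.mk b := by
    intro a b hab e
    obtain ⟨c, rfl⟩ := isConj_iff.1 (ConjClasses.mk_eq_mk_iff_isConj.1 e)
    exact hab (MulEquiv.orderOf_eq (MulAut.conj c) a).symm
  have n1z := hne 1 z (by rw [orderOf_one, hz]; norm_num)
  have n1x := hne 1 x (by rw [orderOf_one, hx]; norm_num)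
  have n1y := hne 1 (z * x) (by rw [orderOf_one, hsix]; norm_num)
  have nzx := hne z x (by rw [hz, hx]; norm_num)
  have nzy := hne z (z * x) (by rw [hz, hsix]; norm_num)
  have nxy := hne x (z * x) (by rw [hx, hsix]; norm_num)
  have hs4 : s.card = 4 := by
    simp [s, n1z, n1x, n1y, nzx, nzy, nxy]
  have hbound : ∀ g : H, ∀ n : ℕ, 0 < n → n ≤ Nat.card (Subgroup.centralizer ({g} : Set H)) →
      size (ConjClasses.mk g) * n ≤ Nat.card H := fun g n _ hn =>
    (hsize g) ▸ Nat.mul_le_mul_left _ hn
  have hrest : (∑ c ∈ Finset.univ \ s, size c) * 4 ≤ (Finset.univ \ s).card * Nat.card H := by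
    rw [Finset.sum_mul, ← smul_eq_mul]
    refine Finset.sum_le_card_nsmul _ _ _ fun c hc => ?_
    obtain ⟨g, rfl⟩ := ConjClasses.mk_surjective c
    simp only [s, Finset.mem_sdiff, Finset.mem_univ, true_and, Finset.mem_insert,
      Finset.mem_singleton, not_or] at hc
    exact hbound g 4 (by norm_num) (h4 g (fun e => hc.1 (by rw [e])) fun e => hc.2.1 (by rw [e]))
  have b1 : size (ConjClasses.mk (1 : H)) * Nat.card H ≤ Nat.card H := by
    refine hbound 1 _ Nat.card_pos (le_of_eq (Nat.card_congr (Equiv.subtypeUnivEquiv fun g => ?_)).symm)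
    rw [Subgroup.mem_centralizer_singleton_iff]; simp
  have b2 : size (ConjClasses.mk z) * Nat.card H ≤ Nat.card H := by
    refine hbound z _ Nat.card_pos (le_of_eq (Nat.card_congr (Equiv.subtypeUnivEquiv fun g => ?_)).symm)
    rw [Subgroup.mem_centralizer_singleton_iff]; exact hzc g
  have b3 := hbound x 6 (by norm_num) (h6x x (Or.inl rfl))
  have b4 := hbound (z * x) 6 (by norm_num) (h6x _ (Or.inr rfl))
  have hsum : ∑ c ∈ s, size c = size (ConjClasses.mk 1) + (size (ConjClasses.mk z) +
      (size (ConjClasses.mk x) + size (ConjClasses.mk (z * x)))) := by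
    simp [s, n1z, n1x, n1y, nzx, nzy, nxy, Finset.sum_insert]
  have hk : (Finset.univ \ s).card + 4 = Nat.card (ConjClasses H) := by
    rw [← hs4, Finset.card_sdiff_add_card_eq_card (Finset.subset_univ _), Finset.card_univ,
      Nat.card_eq_fintype_card]
  rw [← Finset.sum_sdiff (Finset.subset_univ s), hsum] at htot
  set N := (Finset.univ \ s).card with hN
  rcases hc with ⟨h, rfl⟩ | ⟨h, rfl⟩ <;> rw [h] at htot hrest b1 b2 b3 b4 <;> omega

/-- The semilinear regular case. -/
theorem semilinear_plane (hreg : Reg H) (hV : Nat.card V = p ^ 2) (hp5 : 5 ≤ p)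
    {F : Type*} [Field F] [Fintype F] (e : V ≃+ F)
    (hsemi : ∀ g : H, ∃ (a : F) (σ : F ≃+* F), ∀ v : V,
        e ((g : V ≃ₗ[ZMod p] V) v) = a * σ (e v)) : p ≤ Nat.card (ConjClasses H) := by
  haveI := finite_group (H := H)
  have hp2 : 5 * p ≤ p ^ 2 := by rw [pow_two]; exact Nat.mul_le_mul_right p hp5
  haveI : Nontrivial V := Finite.one_lt_card_iff_nontrivial.1 (by rw [hV]; omega)
  have hcard := card_add_one hreg
  rw [hV] at hcard
  obtain ⟨x₀, hx₀⟩ := exists_ne (0 : V)
  obtain ⟨A, hAc, -, hidx, -⟩ := H23.KGV.semilinear_data H.subtype e hsemi H.subtype_injective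
    (fun v w hv hw => exists_map_eq hreg hv hw) hV (by norm_num) hx₀
  have h1 := H23.KGV.classes_mul_card_ge A hAc
  rw [← A.card_mul_index, mul_comm (Nat.card A) A.index, ← mul_assoc] at h1
  have h2 := Nat.le_of_mul_le_mul_right h1 Nat.card_pos
  have h3 : Nat.card A * A.index = Nat.card H := A.card_mul_index
  have h4 : Nat.card A * A.index ≤ Nat.card A * 2 := Nat.mul_le_mul_left _ hidx
  have h5 : Nat.card (ConjClasses H) * A.index ≤ Nat.card (ConjClasses H) * 2 :=
    Nat.mul_le_mul_left _ hidx
  omega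

/-- The bound for regular plane groups. -/
theorem regular_lower (hreg : Reg H) (hV : Nat.card V = p ^ 2) (hp5 : 5 ≤ p) :
    p ≤ Nat.card (ConjClasses H) ∨
      (p = 11 ∧ Nonempty (H ≃* Matrix.SpecialLinearGroup (Fin 2) (ZMod 5))) := by
  haveI := finite_group (H := H)
  haveI : Nontrivial V := Finite.one_lt_card_iff_nontrivial.1 (by rw [hV]; nlinarith)
  have hcard := card_add_one hreg
  rw [hV] at hcard
  have hp2 : 5 * p ≤ p ^ 2 := by rw [pow_two]; exact Nat.mul_le_mul_right p hp5
  by_cases hcomm : ∀ a b : H, a * b = b * a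
  · left
    rw [classes_of_comm hcomm]
    omega
  push Not at hcomm
  by_cases hsolv : Group.IsSolvable H
  swap
  · obtain ⟨m, hm, -, N, M, ⟨e⟩, hMc, hMm, ⟨f⟩⟩ := nonsolvable_structure hreg hsolv
    rcases hm with ⟨rfl, rfl⟩ | hm
    · right
      have : Subsingleton M := (Nat.card_eq_one_iff_unique.1 hMm).1
      let g : N ≃* H :=
        { toFun := fun n => f (n, 1)
          invFun := fun x => (f.symm x).1
          left_inv := fun n => by simp
          right_inv := fun x => by
            have h1 : ((f.symm x).1, (1 : M)) = f.symm x := Prod.ext rfl (Subsingleton.elim _ _)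
            show f ((f.symm x).1, (1 : M)) = x
            rw [h1, MulEquiv.apply_symm_apply]
          map_mul' := fun a b => by rw [← map_mul]; simp }
      exact ⟨rfl, ⟨g.symm.trans e⟩⟩
    · left
      have h1 : Nat.card (ConjClasses N) = 9 := by
        rw [classes_congr e]; exact sl25_classes
      have h2 : Nat.card (ConjClasses M) = m := by
        rw [← hMm]
        letI := IsCyclic.commGroup (α := M)
        exact classes_of_comm mul_comm
      have h3 := classes_prod (G := N) (H := M)
      rw [classes_congr f, h1, h2] at h3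
      rcases hm with ⟨rfl, rfl⟩ | ⟨rfl, rfl⟩ <;> omega
  left
  by_cases hI : NoCyc H
  · haveI := hsolv
    obtain ⟨A, hA⟩ := exists_maxAb (H := H)
    haveI := hA.1
    obtain ⟨N, ⟨hNn, hNle, hNna⟩, hmin⟩ := (Set.toFinite {N : Subgroup H | N.Normal ∧
      N ≤ Subgroup.centralizer (A : Set H) ∧ ¬ IsMulCommutative N}).exists_minimal
      ⟨_, centralizer_normal, le_rfl, (lt_centralizer hreg hI hA).2⟩
    haveI := hNn
    have hNmin : ∀ M : Subgroup H, M.Normal → M ≤ N → ¬ IsMulCommutative M → M = N :=
      fun M hMn hMle hMna => le_antisymm hMle (hmin ⟨hMn, hMle.trans hNle, hMna⟩ hMle)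
    have hder : IsMulCommutative (⁅N, N⁆ : Subgroup H) := by
      by_contra hna
      have h1 := hNmin _ inferInstance (Subgroup.commutator_le_left N N) hna
      haveI : Nontrivial N := by
        by_contra hnt
        rw [not_nontrivial_iff_subsingleton] at hnt
        exact hNna ⟨⟨fun a b => Subsingleton.elim _ _⟩⟩
      have h2 := Group.IsSolvable.commutator_lt_of_ne_bot
        ((Subgroup.nontrivial_iff_ne_bot N).mp inferInstance)
      exact h2.ne h1
    obtain ⟨e⟩ := quaternion_of_minimal hreg hA hNle hNna hNmin hder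
    obtain ⟨-, hp, -⟩ := quaternion_case hreg hI hA hNle e
    rcases hp with h | h | h | h
    · subst h
      exact small_regular hreg hcomm (Or.inl ⟨by norm_num at hcard; omega, rfl⟩)
    · subst h
      exact small_regular hreg hcomm (Or.inr ⟨by norm_num at hcard; omega, rfl⟩)
    all_goals
      -- a large centre
      set i : H := ((e.symm (QuaternionGroup.xa 0) : N) : H) with hi
      have hi4 : orderOf i = 4 := by
        rw [hi, Subgroup.orderOf_coe, MulEquiv.orderOf_eq, QuaternionGroup.orderOf_xa]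
      have hinc : ∃ n ∈ N, ¬ Commute i n := by
        refine ⟨_, (e.symm (QuaternionGroup.a 1)).2, fun hc => ?_⟩
        have h1 : e.symm (QuaternionGroup.xa 0) * e.symm (QuaternionGroup.a 1) =
            e.symm (QuaternionGroup.a 1) * e.symm (QuaternionGroup.xa 0) := Subtype.ext hc
        rw [← map_mul, ← map_mul, e.symm.injective.eq_iff] at h1
        revert h1
        decide
      obtain ⟨J, hJ, hHJ⟩ := card_decomp hreg hA hNle (i := i) (SetLike.coe_mem _) hi4 hinc
      rw [Nat.card_congr (MulAut.congr e).toEquiv, H58.card_mulAut_q8] at hJ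
      obtain ⟨-, W, htop, hW⟩ := exists_proper_minInv hreg hI A hA.1 hA.2.1
      have hidx := index_centralizer_le hreg hA.2.1 hW
      obtain ⟨-, hdvd, -⟩ := cyclic_dvd hreg hA.2.1 hW
      have hd : Module.finrank (ZMod p) V = 2 := by
        rw [Module.natCard_eq_pow_finrank (K := ZMod p), Nat.card_zmod] at hV
        exact Nat.pow_right_injective (Fact.out : p.Prime).two_le hV
      haveI : Nontrivial W := Submodule.nontrivial_iff_ne_bot.mpr hW.1
      have hk1 : Module.finrank (ZMod p) W = 1 := by
        have h1 := Submodule.finrank_lt htop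
        have h2 : 0 < Module.finrank (ZMod p) W := Module.finrank_pos
        omega
      rw [hk1] at hidx hdvd
      rw [pow_one] at hdvd
      have hC : Subgroup.centralizer (A : Set H) = ⊤ := by
        rw [← Subgroup.index_eq_one]
        have := Subgroup.index_ne_zero_of_finite (H := Subgroup.centralizer (A : Set H))
        omega
      have hAZ : A ≤ Subgroup.center H := fun a ha => Subgroup.mem_center_iff.2 fun g =>
        (Subgroup.mem_centralizer_iff.1 (hC ▸ Subgroup.mem_top g : g ∈ Subgroup.centralizer (A : Set H))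
          a ha).symm
      rw [hC, Subgroup.index_top, one_mul] at hHJ
      have h24 : Nat.card H ∣ Nat.card A * 24 := hHJ ▸ Nat.mul_dvd_mul_left _ hJ
      haveI : Fact (Nat.Prime 2) := ⟨Nat.prime_two⟩
      obtain ⟨z, hz⟩ := exists_prime_orderOf_dvd_card' (G := H) 2
        (by subst h; norm_num at hcard; omega)
      have hzc : z ∈ Subgroup.center H :=
        Subgroup.mem_center_iff.2 (central_invol hreg (by rw [← sq, ← hz, pow_orderOf_eq_one]))
      have h2Z : 2 ∣ Nat.card (Subgroup.center H) := hz ▸ Subgroup.orderOf_dvd_natCard _ hzc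
      have hAd : Nat.card A ∣ Nat.card (Subgroup.center H) := Subgroup.card_dvd_of_le hAZ
      have hlt := center_lt_classes hcomm (Subgroup.center H) le_rfl
      subst h
      norm_num at hcard hdvd
    · -- `p = 11`
      have hH : Nat.card H = 120 := by omega
      rw [hH] at h24
      have h5 : 5 ∣ Nat.card A :=
        (Nat.Coprime.dvd_mul_right (by norm_num : Nat.Coprime 5 24)).1 ((by norm_num : 5 ∣ 120).trans h24)
      have h10 : 10 ∣ Nat.card (Subgroup.center H) :=
        Nat.Coprime.mul_dvd_of_dvd_of_dvd (by norm_num : Nat.Coprime 2 5) h2Z (h5.trans hAd)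
      have := Nat.le_of_dvd Nat.card_pos h10
      omega
    · -- `p = 23`
      have hH : Nat.card H = 528 := by omega
      rw [hH] at h24
      have h22 : 22 ∣ Nat.card A := by
        have : 22 * 24 ∣ Nat.card A * 24 := (by norm_num : 22 * 24 = 528) ▸ h24
        exact Nat.dvd_of_mul_dvd_mul_right (by norm_num) this
      have := Nat.le_of_dvd Nat.card_pos (h22.trans hAd)
      omega
  · unfold NoCyc at hI
    push Not at hI
    obtain ⟨A, hAn, hAc, hA⟩ := hI
    haveI := hAn
    haveI := hAc
    have hirr : ∀ W : Submodule (ZMod p) V,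
        (∀ a ∈ A, ∀ w ∈ W, ((a : H) : V ≃ₗ[ZMod p] V) w ∈ W) → W = ⊥ ∨ W = ⊤ := by
      intro W hW
      by_contra hne
      push Not at hne
      obtain ⟨a, ha, w, hw, hout⟩ := hA W hne.1 hne.2
      exact hout (hW a ha w hw)
    obtain ⟨F, hF, hFf, e, hsemi⟩ := H2.semilinear_of_irred H.subtype A (fun a ha b hb => by
      letI := IsCyclic.commGroup (α := A)
      exact congrArg Subtype.val (mul_comm (⟨a, ha⟩ : A) ⟨b, hb⟩)) hirr
    exact semilinear_plane hreg hV hp5 e hsemi

end H13.TwoClass
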