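import Cfsg.Agent.H13.TwoClass.Plane
import Cfsg.Agent.H13.TwoClass.Regular
import Cfsg.Agent.H13.CT.Main

/-!
A group of order prime to `p`, transitive on the non-zero vectors of a space of dimension at least
two, has at least `p` classes, except `SL(2,5)` on the plane of order `121`.
-/

set_option autoImplicit false
set_option linter.style.haveILetI false

namespace H13.TwoClass

open H23.KGV

universe u v

variable {p : ℕ} [Fact p.Prime] {V : Type v} [AddCommGroup V] [Module (ZMod p) V] [Finite V]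
  {G : Type u} [Group G] [Finite G]

/-- The class number of a coprime transitive linear group. -/
theorem linear_bound (ρ : G →* (V ≃ₗ[ZMod p] V)) (hρ : Function.Injective ρ)
    (hcop : ¬ p ∣ Nat.card G) (htr : ∀ x y : V, x ≠ 0 → y ≠ 0 → ∃ g : G, ρ g x = y)
    (hn : 2 ≤ Module.finrank (ZMod p) V) :
    p ≤ Nat.card (ConjClasses G) ∨ (p = 11 ∧ Nat.card V = 121 ∧ Nat.card G = 120 ∧
      Nonempty (G ≃* Matrix.SpecialLinearGroup (Fin 2) (ZMod 5))) := by
  haveI : Nontrivial V := Module.nontrivial_of_finrank_pos (R := ZMod p) (by omega)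
  have hV : Nat.card V = p ^ Module.finrank (ZMod p) V := by
    rw [Module.natCard_eq_pow_finrank (K := ZMod p), Nat.card_zmod]
  obtain ⟨x, hx⟩ := exists_ne (0 : V)
  have hG : Nat.card G = (Nat.card V - 1) * Nat.card (stab ρ x) := card_eq_of_trans ρ htr hx
  have hp : p.Prime := Fact.out
  have hsq : p ^ 2 ≤ Nat.card V := hV ▸ Nat.pow_le_pow_right hp.pos hn
  by_cases hp5 : p < 5
  · left
    have h4 : 4 ≤ p ^ 2 := by
      calc 4 = 2 ^ 2 := by norm_num
        _ ≤ p ^ 2 := Nat.pow_le_pow_left hp.two_le 2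
    have h3 : 3 ≤ Nat.card G := by
      rw [hG]
      exact (by omega : 3 ≤ Nat.card V - 1).trans (Nat.le_mul_of_pos_right _ Nat.card_pos)
    have := three_le_classes h3
    interval_cases p
    · omega
    · omega
    · omega
    · omega
    · norm_num at hp
  rw [not_lt] at hp5
  rcases Nat.lt_or_ge 2 (Module.finrank (ZMod p) V) with h3 | h2
  · left
    rcases H13.CT.semilinear_or p ρ hρ hcop htr h3 with ⟨F, hF, hFf, e, hsemi⟩ | h81
    · exact semilinear_lower ρ e hsemi hρ htr hV h3 (by omega) hx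
    · exfalso
      have : p ∣ 3 ^ 4 := by
        rw [show (3 : ℕ) ^ 4 = Nat.card V by rw [h81]; norm_num, hV]
        exact dvd_pow_self p (by omega)
      have := (Nat.prime_dvd_prime_iff_eq hp Nat.prime_three).1 (hp.dvd_of_dvd_pow this)
      omega
  have hd : Module.finrank (ZMod p) V = 2 := by omega
  rw [hd] at hV
  rcases Nat.lt_or_ge (Nat.card (stab ρ x)) 2 with h1 | hh
  swap
  · exact Or.inl (split_lower hd hρ hcop hp.two_le htr hx hh)
  have hstab : ∀ v : V, v ≠ 0 → Nat.card (stab ρ v) = 1 := fun v hv => by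
    rw [← card_stab_eq ρ htr hx hv]
    have := Nat.card_pos (α := stab ρ x)
    omega
  have hreg : H58.RegLin.Reg ρ.range := by
    intro v w hv hw
    obtain ⟨g, hg⟩ := htr v w hv hw
    refine ⟨⟨ρ g, g, rfl⟩, hg, ?_⟩
    rintro ⟨_, g', rfl⟩ hg'
    haveI := (Nat.card_eq_one_iff_unique.1 (hstab v hv)).1
    have hmem : g⁻¹ * g' ∈ stab ρ v := by
      show ρ (g⁻¹ * g') v = v
      rw [map_mul, LinearEquiv.mul_apply, hg', ← hg, ← LinearEquiv.mul_apply, ← map_mul,
        inv_mul_cancel, map_one]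
      rfl
    have h0 : (⟨g⁻¹ * g', hmem⟩ : stab ρ v) = 1 := Subsingleton.elim _ _
    have h1 : g⁻¹ * g' = 1 := congrArg Subtype.val h0
    exact Subtype.ext (congrArg ρ (inv_mul_eq_one.1 h1).symm)
  let e := MonoidHom.ofInjective hρ
  haveI : Finite ρ.range := Finite.of_equiv G e.toEquiv
  rw [classes_congr e]
  rcases regular_lower hreg hV hp5 with h | ⟨rfl, ⟨f⟩⟩
  · exact Or.inl h
  · refine Or.inr ⟨rfl, by rw [hV]; norm_num, ?_, ⟨e.trans f⟩⟩
    rw [Nat.card_congr (e.trans f).toEquiv]
    exact H59.card_SL25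

end H13.TwoClass
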