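import Cfsg.Agent.H13.TwoClass.Reduce
import Cfsg.Agent.H13.TwoClass.Linear
import Cfsg.Agent.H13.TwoClass.Extension

/-!
The three ends of the argument: the one-dimensional case, the linear bound, and the exceptional
group with and without a `p'`-kernel.
-/

set_option autoImplicit false
set_option linter.style.haveILetI false
set_option linter.unusedSectionVars false

namespace H13.TwoClass

open Subgroup

universe u

variable {p : ℕ} [hp : Fact p.Prime] {G : Type u} [Group G] [Finite G] {V K : Subgroup G}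

/-- The prime-order case: the complement is abelian of order `p - 1`. -/
theorem Split.prime_case (h : Split p V K) (hV : Nat.card V = p) :
    Nat.card (ConjClasses K) = p - 1 ∧ (∀ a b : K, a * b = b * a) := by
  classical
  haveI := h.normal
  obtain ⟨a, ha, ha1⟩ := (Subgroup.bot_or_exists_ne_one V).resolve_left h.ne_bot
  have hgen : ∀ b ∈ V, ∃ i : ℕ, b = a ^ i := by
    intro b hb
    obtain ⟨i, hi⟩ := (mem_powers_of_prime_card hV (g := (⟨a, ha⟩ : V)) (g' := ⟨b, hb⟩)
      fun e => ha1 (congrArg Subtype.val e))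
    exact ⟨i, (congrArg Subtype.val hi).symm⟩
  have hfix : ∀ k ∈ K, k * a * k⁻¹ = a → k = 1 := fun k hk he => h.eq_one_of_fix_all hk fun b hb => by
    obtain ⟨i, rfl⟩ := hgen b hb
    rw [← conj_pow, he]
  have hexp : ∀ k : K, ∃ i : ℕ, (k : G) * a * (k : G)⁻¹ = a ^ i := fun k =>
    hgen _ (h.normal.conj_mem a ha _)
  have hcomm : ∀ k l : K, k * l = l * k := by
    intro k l
    obtain ⟨i, hi⟩ := hexp k
    obtain ⟨j, hj⟩ := hexp l
    have e : ∀ (k l : K) (i j : ℕ), (k : G) * a * (k : G)⁻¹ = a ^ i →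
        (l : G) * a * (l : G)⁻¹ = a ^ j → ((k * l : K) : G) * a * ((k * l : K) : G)⁻¹ = a ^ (i * j) := by
      intro k l i j hi hj
      rw [pow_mul, ← hi, conj_pow, ← hj, Subgroup.coe_mul]
      group
    have e1 := e k l i j hi hj
    have e2 := e l k j i hj hi
    rw [mul_comm j i, ← e1] at e2
    refine Subtype.ext ?_
    have h2 := hfix ((((k * l : K) : G))⁻¹ * ((l * k : K) : G))
      (mul_mem (inv_mem (k * l).2) (l * k).2) (by
        calc (((k * l : K) : G))⁻¹ * ((l * k : K) : G) * a * ((((k * l : K) : G))⁻¹ * ((l * k : K) : G))⁻¹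
            = (((k * l : K) : G))⁻¹ * (((l * k : K) : G) * a * ((l * k : K) : G)⁻¹) * ((k * l : K) : G) := by
              group
          _ = a := by rw [e2]; group)
    exact inv_mul_eq_one.1 h2
  refine ⟨?_, hcomm⟩
  rw [classes_of_comm hcomm, ← hV]
  have hbij : Nat.card K = Nat.card {b : V // b ≠ 1} := by
    refine Nat.card_eq_of_bijective (fun k : K => ⟨⟨(k : G) * a * (k : G)⁻¹, h.normal.conj_mem a ha _⟩,
      fun e => ha1 (conj_eq_one_iff.1 (congrArg Subtype.val e))⟩) ⟨fun k l e => ?_, fun b => ?_⟩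
    · have e' : (k : G) * a * (k : G)⁻¹ = (l : G) * a * (l : G)⁻¹ :=
        congrArg (fun x => ((x : V) : G)) (congrArg Subtype.val e)
      refine Subtype.ext (inv_mul_eq_one.1 (hfix _ (mul_mem (inv_mem l.2) k.2) ?_)).symm
      calc (l : G)⁻¹ * k * a * ((l : G)⁻¹ * k)⁻¹ = (l : G)⁻¹ * ((k : G) * a * (k : G)⁻¹) * l := by group
        _ = a := by rw [e']; group
    · obtain ⟨k, hk, e⟩ := h.trans a ha b.1.1 b.1.2 ha1 fun e => b.2 (Subtype.ext e)
      exact ⟨⟨k, hk⟩, Subtype.ext (Subtype.ext e)⟩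
  haveI := Fintype.ofFinite V
  rw [hbij, Nat.card_eq_fintype_card, Fintype.card_subtype_compl, Fintype.card_subtype_eq,
    ← Nat.card_eq_fintype_card]

/-- A split group with a prime normal subgroup is the affine group. -/
theorem Split.affine (h : Split p V K) (hV : Nat.card V = p) :
    Nonempty (G ≃* Cfsg.affineGroup (ZMod p)) := by
  haveI := h.normal
  have hM : Nat.card (Multiplicative (ZMod p)) = p := by
    rw [Nat.card_congr Multiplicative.toAdd, Nat.card_zmod]
  let e : Multiplicative (ZMod p) ≃* V := mulEquivOfPrimeCardEq hM hV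
  let emb : ZMod p → G := fun x => (e (Multiplicative.ofAdd x) : G)
  have hemb : ∀ x, emb x ∈ V := fun x => (e (Multiplicative.ofAdd x)).2
  have hemb_add : ∀ x y, emb (x + y) = emb x * emb y := fun x y => by
    show (e (Multiplicative.ofAdd (x + y)) : G) = _
    rw [ofAdd_add, map_mul]; rfl
  have hemb_inj : Function.Injective emb := fun x y hxy =>
    Multiplicative.ofAdd.injective (e.injective (Subtype.ext hxy))
  let β : ZMod p → G ⧸ K := fun x => (emb x : G ⧸ K)
  have hβinj : Function.Injective β := fun x y hxy => by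
    have h1 : (emb x)⁻¹ * emb y ∈ K := QuotientGroup.eq.1 hxy
    have h2 : (emb x)⁻¹ * emb y ∈ V := V.mul_mem (V.inv_mem (hemb x)) (hemb y)
    exact hemb_inj (inv_mul_eq_one.1 (Subgroup.mem_bot.1 (h.compl.disjoint.le_bot ⟨h2, h1⟩)))
  have hdec : ∀ g : G, ∃ x : ZMod p, ∃ k ∈ K, g = emb x * k := by
    intro g
    obtain ⟨⟨v, k⟩, hvk⟩ := h.compl.2 g
    refine ⟨(e.symm ⟨v, v.2⟩).toAdd, k, k.2, ?_⟩
    show g = (e (Multiplicative.ofAdd (e.symm ⟨v, v.2⟩).toAdd) : G) * k
    rw [ofAdd_toAdd, MulEquiv.apply_symm_apply]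
    exact hvk.symm
  have hβsurj : Function.Surjective β := fun q => by
    obtain ⟨g, rfl⟩ := QuotientGroup.mk_surjective q
    obtain ⟨x, k, hk, rfl⟩ := hdec g
    exact ⟨x, (QuotientGroup.mk_mul_of_mem _ hk).symm⟩
  let eβ : ZMod p ≃ G ⧸ K := Equiv.ofBijective β ⟨hβinj, hβsurj⟩
  let Φ : G →* Equiv.Perm (ZMod p) :=
    (Equiv.permCongrHom eβ.symm).toMonoidHom.comp (MulAction.toPermHom G (G ⧸ K))
  have hlin : ∀ k ∈ K, ∃ a : (ZMod p)ˣ, ∀ x, k * emb x * k⁻¹ = emb ((a : ZMod p) * x) := by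
    intro k hk
    choose f hf using fun x : ZMod p =>
      (⟨(e.symm ⟨_, h.normal.conj_mem _ (hemb x) k⟩).toAdd, by
        show k * emb x * k⁻¹ = (e (Multiplicative.ofAdd (e.symm ⟨_, _⟩).toAdd) : G)
        rw [ofAdd_toAdd, MulEquiv.apply_symm_apply]⟩ : ∃ y, k * emb x * k⁻¹ = emb y)
    have hfadd : ∀ x y, f (x + y) = f x + f y := fun x y => hemb_inj (by
      rw [← hf, hemb_add, hemb_add, ← hf, ← hf]; group)
    let F : ZMod p →+ ZMod p := AddMonoidHom.mk' f hfadd
    have hmul : ∀ x, f x = f 1 * x := by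
      intro x
      have h2 := ((F.toZModLinearMap p).map_smul x 1)
      rw [smul_eq_mul, mul_one, smul_eq_mul, mul_comm] at h2
      exact h2
    have h10 : f 1 ≠ 0 := by
      intro h0
      have h1 := hf 1
      rw [h0] at h1
      have hz : emb 0 = 1 := by
        have := hemb_add 0 0
        rwa [add_zero, left_eq_mul] at this
      rw [hz, conj_eq_one_iff, ← hz] at h1
      exact one_ne_zero (hemb_inj h1)
    exact ⟨Units.mk0 (f 1) h10, fun x => by rw [Units.val_mk0, ← hmul]; exact hf x⟩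
  have hform : ∀ (x : ZMod p) (k : G), k ∈ K → ∀ a : (ZMod p)ˣ,
      (∀ y, k * emb y * k⁻¹ = emb ((a : ZMod p) * y)) → ∀ y, Φ (emb x * k) y = (a : ZMod p) * y + x := by
    intro x k hk a ha y
    show eβ.symm ((emb x * k) • eβ y) = _
    rw [Equiv.symm_apply_eq]
    show ((emb x * k * emb y : G) : G ⧸ K) = ((emb ((a : ZMod p) * y + x) : G) : G ⧸ K)
    rw [add_comm, hemb_add, ← ha, QuotientGroup.eq]
    have : (emb x * k * emb y)⁻¹ * (emb x * (k * emb y * k⁻¹)) = k⁻¹ := by group
    rw [this]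
    exact inv_mem hk
  have hmem : ∀ g, Φ g ∈ Cfsg.affineGroup (ZMod p) := fun g => by
    obtain ⟨x, k, hk, rfl⟩ := hdec g
    obtain ⟨a, ha⟩ := hlin k hk
    exact ⟨a, x, hform x k hk a ha⟩
  refine ⟨MulEquiv.ofBijective (Φ.codRestrict _ hmem) ⟨?_, ?_⟩⟩
  · rw [injective_iff_map_eq_one]
    intro g hg
    obtain ⟨x, k, hk, rfl⟩ := hdec g
    obtain ⟨a, ha⟩ := hlin k hk
    have h1 : ∀ y, (a : ZMod p) * y + x = y := fun y => by
      rw [← hform x k hk a ha y, show Φ (emb x * k) = 1 from congrArg Subtype.val hg]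
      rfl
    have hx : x = 0 := by simpa using h1 0
    have ha1 : (a : ZMod p) = 1 := by simpa [hx] using h1 1
    have hk1 : k = 1 := h.eq_one_of_fix_all hk fun b hb => by
      have hb' : b = emb (e.symm ⟨b, hb⟩).toAdd := by
        show b = (e (Multiplicative.ofAdd (e.symm ⟨b, hb⟩).toAdd) : G)
        rw [ofAdd_toAdd, MulEquiv.apply_symm_apply]
      rw [hb', ha, ha1, one_mul]
    have hz : emb 0 = 1 := by
      have := hemb_add 0 0
      rwa [add_zero, left_eq_mul] at this
    rw [hx, hk1, hz, one_mul]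
  · rintro ⟨σ, a, b, hσ⟩
    have hz : emb 0 = 1 := by
      have := hemb_add 0 0
      rwa [add_zero, left_eq_mul] at this
    have hne : ∀ x : ZMod p, x ≠ 0 → emb x ≠ 1 := fun x hx e => hx (hemb_inj (e.trans hz.symm))
    obtain ⟨k, hk, hka⟩ := h.trans (emb 1) (hemb 1) (emb (a : ZMod p)) (hemb _) (hne 1 one_ne_zero)
      (hne _ a.ne_zero)
    obtain ⟨a', ha'⟩ := hlin k hk
    have haa : (a' : ZMod p) = a := by
      have := (ha' 1).symm.trans hka
      rw [mul_one] at this
      exact hemb_inj this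
    refine ⟨emb b * k, Subtype.ext (Equiv.ext fun y => ?_)⟩
    show Φ (emb b * k) y = σ y
    rw [hform b k hk a' ha', haa, hσ]

/-- The linear bound for an action by additive maps. -/
theorem bound_of_addAct {H : Type u} [Group H] [Finite H] {B : Type u} [AddCommGroup B]
    [Module (ZMod p) B] [Finite B] (f : H → B → B) (hadd : ∀ k x y, f k (x + y) = f k x + f k y)
    (hone : ∀ x, f 1 x = x) (hmul : ∀ k l x, f (k * l) x = f k (f l x))
    (hinj : ∀ k, (∀ x, f k x = x) → k = 1) (hcop : ¬ p ∣ Nat.card H)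
    (htr : ∀ x y : B, x ≠ 0 → y ≠ 0 → ∃ k : H, f k x = y)
    (h2 : Nat.card B ≠ 1) (hB : Nat.card B ≠ p) :
    p ≤ Nat.card (ConjClasses H) ∨ (p = 11 ∧ Nat.card B = 121 ∧ Nat.card H = 120 ∧
      Nonempty (H ≃* Matrix.SpecialLinearGroup (Fin 2) (ZMod 5))) := by
  haveI : Module.Finite (ZMod p) B := Module.Finite.of_finite
  let g : H → (B →ₗ[ZMod p] B) := fun k => (AddMonoidHom.mk' (f k) (hadd k)).toZModLinearMap p
  have hg : ∀ k x, g k x = f k x := fun k x => rfl
  let ρ : H →* (B ≃ₗ[ZMod p] B) :=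
    { toFun := fun k => LinearEquiv.ofLinearMap (g k) (g k⁻¹)
        (LinearMap.ext fun x => by
          rw [LinearMap.comp_apply, hg, hg, ← hmul, mul_inv_cancel, hone, LinearMap.id_apply])
        (LinearMap.ext fun x => by
          rw [LinearMap.comp_apply, hg, hg, ← hmul, inv_mul_cancel, hone, LinearMap.id_apply])
      map_one' := LinearEquiv.ext fun x => hone x
      map_mul' := fun k l => LinearEquiv.ext fun x => hmul k l x }
  have hρ : ∀ k x, ρ k x = f k x := fun k x => rfl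
  have hρi : Function.Injective ρ := (injective_iff_map_eq_one ρ).2 fun k hk => hinj k fun x => by
    rw [← hρ, hk]; rfl
  have htr' : ∀ x y : B, x ≠ 0 → y ≠ 0 → ∃ k : H, ρ k x = y := fun x y hx hy => htr x y hx hy
  have hn : 2 ≤ Module.finrank (ZMod p) B := by
    by_contra hlt
    have hc : Nat.card B = p ^ Module.finrank (ZMod p) B := by
      rw [Module.natCard_eq_pow_finrank (K := ZMod p), Nat.card_zmod]
    rcases (by omega : Module.finrank (ZMod p) B = 0 ∨ Module.finrank (ZMod p) B = 1) with e | e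
    · rw [e, pow_zero] at hc
      exact h2 hc
    · rw [e, pow_one] at hc
      exact hB hc
  exact linear_bound ρ hρi hcop htr' hn

/-- The linear group of a split group. -/
theorem Split.linear (h : Split p V K) (hV : Nat.card V ≠ p) :
    p ≤ Nat.card (ConjClasses K) ∨ (p = 11 ∧ Nat.card V = 121 ∧ Nat.card K = 120 ∧
      Nonempty (K ≃* Matrix.SpecialLinearGroup (Fin 2) (ZMod 5))) := by
  haveI := h.normal
  letI : CommGroup V :=
    { (inferInstance : Group V) with mul_comm := fun a b => Subtype.ext (h.comm a a.2 b b.2) }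
  haveI : Finite (Additive V) := Finite.of_equiv V Additive.ofMul
  letI : Module (ZMod p) (Additive V) := AddCommGroup.zmodModule (fun x => by
    refine Additive.toMul.injective ?_
    exact Subtype.ext (h.pow_eq _ x.toMul.2))
  have hcard : Nat.card (Additive V) = Nat.card V := Nat.card_congr Additive.toMul
  let act : K →* MulAut V := (MulAut.conjNormal : G →* MulAut V).comp K.subtype
  rw [← hcard]
  refine bound_of_addAct (fun k x => Additive.ofMul (act k x.toMul)) ?_ ?_ ?_ ?_ h.coprime ?_ ?_ ?_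
  · exact fun k x y => congrArg Additive.ofMul (map_mul (act k) x.toMul y.toMul)
  · intro x; rw [map_one]; rfl
  · intro k l x; rw [map_mul]; rfl
  · intro k hk
    refine Subtype.ext (h.eq_one_of_fix_all k.2 fun a ha => ?_)
    exact congrArg Subtype.val (Additive.ofMul.injective (hk (Additive.ofMul ⟨a, ha⟩)))
  · intro x y hx hy
    obtain ⟨k, hk, hkx⟩ := h.trans x.toMul x.toMul.2 y.toMul y.toMul.2
      (fun e => hx (Additive.toMul.injective (Subtype.ext e)))
      (fun e => hy (Additive.toMul.injective (Subtype.ext e)))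
    exact ⟨⟨k, hk⟩, Additive.toMul.injective (Subtype.ext hkx)⟩
  · rw [hcard]; exact fun e => h.ne_bot (Subgroup.eq_bot_of_card_eq _ e)
  · rw [hcard]; exact hV

/-- Regularity in the exceptional case. -/
theorem Split.fixed_free (h : Split p V K) (hVK : Nat.card K + 1 = Nat.card V) {v k : G}
    (hv : v ∈ V) (hv1 : v ≠ 1) (hk : k ∈ K) (hfix : k * v * k⁻¹ = v) : k = 1 := by
  classical
  haveI := h.normal
  have hsurj : Function.Surjective (fun c : K => (⟨⟨(c : G) * v * (c : G)⁻¹,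
      h.normal.conj_mem v hv _⟩, fun e => hv1 (conj_eq_one_iff.1 (congrArg Subtype.val e))⟩ :
        {b : V // b ≠ 1})) := fun b => by
    obtain ⟨c, hc, e⟩ := h.trans v hv b.1.1 b.1.2 hv1 fun e => b.2 (Subtype.ext e)
    exact ⟨⟨c, hc⟩, Subtype.ext (Subtype.ext e)⟩
  have hinj := (hsurj.bijective_of_nat_card_le (by
    haveI := Fintype.ofFinite V
    rw [Nat.card_eq_fintype_card (α := {b : V // b ≠ 1}), Fintype.card_subtype_compl,
      Fintype.card_subtype_eq, ← Nat.card_eq_fintype_card]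
    omega)).1
  have := @hinj ⟨k, hk⟩ 1 (Subtype.ext (Subtype.ext (by
    show k * v * k⁻¹ = (1 : G) * v * (1 : G)⁻¹
    rw [hfix]; group)))
  exact congrArg Subtype.val this

/-- The exceptional group without a kernel. -/
theorem Split.exceptional (h : Split p V K) (hVK : Nat.card K + 1 = Nat.card V) (hK1 : K ≠ ⊥) :
    Cfsg.IsFrobeniusComplement K ∧ regCount p G ≤ Nat.card (ConjClasses K) := by
  haveI := h.normal
  refine ⟨⟨hK1, fun htop => ?_, fun g hg => ?_⟩, ?_⟩
  · obtain ⟨a, ha, ha1⟩ := (Subgroup.bot_or_exists_ne_one V).resolve_left h.ne_bot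
    exact ha1 (Subgroup.mem_bot.1 (h.compl.disjoint.le_bot ⟨ha, htop ▸ Subgroup.mem_top a⟩))
  · obtain ⟨⟨v, c⟩, hvc⟩ := h.compl.2 g
    simp only at hvc
    have hv1 : (v : G) ≠ 1 := fun e => hg (by rw [← hvc, e, one_mul]; exact c.2)
    rw [eq_bot_iff]
    rintro a ⟨haK, ha⟩
    obtain ⟨b, hb, hab⟩ := Subgroup.mem_smul_pointwise_iff_exists _ _ _ |>.1 ha
    rw [Subgroup.mem_bot]
    set b' : G := (c : G) * b * (c : G)⁻¹ with hb'
    have hb'K : b' ∈ K := K.mul_mem (K.mul_mem c.2 hb) (K.inv_mem c.2)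
    have hv : (v : G) ∈ V := v.2
    have e1 : (v : G) * b' * (v : G)⁻¹ = a := by
      rw [← hab, MulAut.smul_def, MulAut.conj_apply, ← hvc, hb']; group
    have e2 : a * b'⁻¹ ∈ V := by
      rw [← e1, show (v : G) * b' * (v : G)⁻¹ * b'⁻¹ = (v : G) * (b' * (v : G)⁻¹ * b'⁻¹) by group]
      exact V.mul_mem hv (h.normal.conj_mem _ (V.inv_mem hv) _)
    have hK' : a * b'⁻¹ ∈ K := K.mul_mem haK (K.inv_mem hb'K)
    have e3 : a * b'⁻¹ = 1 := Subgroup.mem_bot.1 (h.compl.disjoint.le_bot ⟨e2, hK'⟩)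
    rw [mul_inv_eq_one] at e3
    refine h.fixed_free hVK hv hv1 haK ?_
    rw [← e3] at e1
    calc a * (v : G) * a⁻¹ = ((v : G) * a * (v : G)⁻¹) * v * a⁻¹ := by rw [e1]
      _ = v := by group
  · let f : ConjClasses K → {c : ConjClasses G // ∃ g : G, ConjClasses.mk g = c ∧ ¬ p ∣ orderOf g} :=
      fun c => ⟨ConjClasses.map K.subtype c, by
        obtain ⟨k, rfl⟩ := ConjClasses.mk_surjective c
        exact ⟨k, rfl, regular_of_dvd (Subgroup.orderOf_dvd_natCard K k.2) h.coprime⟩⟩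
    refine Nat.card_le_card_of_surjective f ?_
    rintro ⟨_, g, rfl, hg⟩
    obtain ⟨⟨v, k⟩, hvk⟩ := h.compl.2 g
    simp only at hvk
    rcases eq_or_ne (k : G) 1 with hk1 | hk1
    · have hgV : g ∈ V := by rw [← hvk, hk1, mul_one]; exact v.2
      have hg1 : g = 1 := by
        by_contra hne
        have h1 : orderOf g ∣ p := orderOf_dvd_of_pow_eq_one (h.pow_eq g hgV)
        rcases (Nat.dvd_prime hp.out).1 h1 with e | e
        · exact hne (orderOf_eq_one_iff.1 e)
        · exact hg (dvd_of_eq e.symm)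
      refine ⟨ConjClasses.mk 1, Subtype.ext ?_⟩
      show ConjClasses.mk (1 : G) = ConjClasses.mk g
      rw [hg1]
    have hcm : ∀ w ∈ V, w * ((k : G) * w⁻¹ * (k : G)⁻¹) ∈ V := fun w hw =>
      V.mul_mem hw (h.normal.conj_mem _ (V.inv_mem hw) _)
    let F : V → V := fun w => ⟨_, hcm w.1 w.2⟩
    have hF : Function.Injective F := fun w w' e => by
      have e' : (w : G) * ((k : G) * (w : G)⁻¹ * (k : G)⁻¹) =
          (w' : G) * ((k : G) * (w' : G)⁻¹ * (k : G)⁻¹) := congrArg Subtype.val e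
      by_contra hne
      refine hk1 (h.fixed_free hVK (v := (w' : G)⁻¹ * w) (mul_mem (inv_mem w'.2) w.2)
        (fun e => hne (Subtype.ext (inv_mul_eq_one.1 e).symm)) k.2 ?_)
      calc (k : G) * ((w' : G)⁻¹ * w) * (k : G)⁻¹
          = ((k : G) * (w' : G)⁻¹ * (k : G)⁻¹) * ((k : G) * w * (k : G)⁻¹) := by group
        _ = ((w' : G)⁻¹ * ((w : G) * ((k : G) * (w : G)⁻¹ * (k : G)⁻¹))) *
            ((k : G) * w * (k : G)⁻¹) := by rw [e']; group
        _ = (w' : G)⁻¹ * w := by group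
    obtain ⟨w, hw⟩ := (Finite.injective_iff_surjective.1 hF) ⟨v, v.2⟩
    refine ⟨ConjClasses.mk k, Subtype.ext (ConjClasses.mk_eq_mk_iff_isConj.2 (isConj_iff.2 ⟨w, ?_⟩))⟩
    rw [← hvk, ← congrArg Subtype.val hw]
    show (w : G) * k * (w : G)⁻¹ = (w : G) * ((k : G) * (w : G)⁻¹ * (k : G)⁻¹) * k
    group

end H13.TwoClass
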