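import Cfsg.Agent.H23.KGV.Count

/-!
Elementary lower bounds for class numbers.
-/

set_option autoImplicit false
set_option linter.style.haveILetI false
set_option linter.unusedSectionVars false

namespace H13.TwoClass

variable {G H : Type*} [Group G] [Group H] [Finite G]

theorem classes_le_of_surj (f : G →* H) (hf : Function.Surjective f) :
    Nat.card (ConjClasses H) ≤ Nat.card (ConjClasses G) :=
  Nat.card_le_card_of_surjective _ (ConjClasses.map_surjective hf)

theorem classes_congr [Finite H] (e : G ≃* H) :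
    Nat.card (ConjClasses G) = Nat.card (ConjClasses H) :=
  le_antisymm (classes_le_of_surj e.symm.toMonoidHom e.symm.surjective)
    (classes_le_of_surj e.toMonoidHom e.surjective)

theorem classes_prod [Finite H] :
    Nat.card (ConjClasses G) * Nat.card (ConjClasses H) ≤ Nat.card (ConjClasses (G × H)) := by
  rw [← Nat.card_prod]
  refine Nat.card_le_card_of_surjective
    (fun c => (ConjClasses.map (MonoidHom.fst G H) c, ConjClasses.map (MonoidHom.snd G H) c)) ?_
  rintro ⟨a, b⟩
  obtain ⟨a, rfl⟩ := ConjClasses.mk_surjective a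
  obtain ⟨b, rfl⟩ := ConjClasses.mk_surjective b
  exact ⟨ConjClasses.mk (a, b), rfl⟩

theorem classes_of_comm (h : ∀ a b : G, a * b = b * a) :
    Nat.card (ConjClasses G) = Nat.card G := by
  refine (Nat.card_eq_of_bijective ConjClasses.mk ⟨fun a b hab => ?_, ConjClasses.mk_surjective⟩).symm
  obtain ⟨c, hc⟩ := isConj_iff.1 (ConjClasses.mk_eq_mk_iff_isConj.1 hab)
  rw [← hc, h c a, mul_inv_cancel_right]

theorem three_le_classes (h : 3 ≤ Nat.card G) : 3 ≤ Nat.card (ConjClasses G) := by
  classical
  haveI := Fintype.ofFinite G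
  by_contra hcon
  have h1 := H23.KGV.classes_mul_card (G := G)
  rw [← Finset.add_sum_erase _ _ (Finset.mem_univ (1 : G))] at h1
  have h2 : Nat.card (Subgroup.centralizer ({(1 : G)} : Set G)) = Nat.card G := by
    refine Nat.card_congr (Equiv.subtypeUnivEquiv fun g => ?_)
    rw [Subgroup.mem_centralizer_singleton_iff]; simp
  have h3 : (Finset.univ.erase (1 : G)).card * 2 ≤
      ∑ g ∈ Finset.univ.erase (1 : G), Nat.card (Subgroup.centralizer ({g} : Set G)) := by
    rw [← smul_eq_mul]
    refine Finset.card_nsmul_le_sum _ _ _ fun g hg => ?_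
    refine Finite.one_lt_card_iff_nontrivial.2 ⟨⟨⟨g, ?_⟩, 1, fun e => ?_⟩⟩
    · rw [Subgroup.mem_centralizer_singleton_iff]
    · exact (Finset.mem_erase.1 hg).1 (congrArg Subtype.val e)
  rw [Finset.card_erase_of_mem (Finset.mem_univ _), Finset.card_univ,
    ← Nat.card_eq_fintype_card] at h3
  have h4 : Nat.card (ConjClasses G) * Nat.card G ≤ 2 * Nat.card G :=
    Nat.mul_le_mul_right _ (by omega)
  omega

theorem center_lt_classes (h : ∃ a b : G, a * b ≠ b * a) (Z : Subgroup G)
    (hZ : Z ≤ Subgroup.center G) : Nat.card Z < Nat.card (ConjClasses G) := by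
  obtain ⟨a, b, hab⟩ := h
  have ha : a ∉ Subgroup.center G := fun h => hab ((Subgroup.mem_center_iff.1 h b).symm)
  let f : Option Z → ConjClasses G := fun z => ConjClasses.mk (z.elim a (fun z => (z : G)))
  have hc : ∀ (z : Z) (x : G), IsConj (z : G) x → x = z := fun z x hx => by
    obtain ⟨c, rfl⟩ := isConj_iff.1 hx
    rw [Subgroup.mem_center_iff.1 (hZ z.2) c, mul_inv_cancel_right]
  have hf : Function.Injective f := by
    rintro (_ | z) (_ | w) e
    · rfl
    · exact absurd (hc w a (ConjClasses.mk_eq_mk_iff_isConj.1 e).symm ▸ hZ w.2) ha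
    · exact absurd (hc z a (ConjClasses.mk_eq_mk_iff_isConj.1 e) ▸ hZ z.2) ha
    · exact congrArg some (Subtype.ext (hc z w (ConjClasses.mk_eq_mk_iff_isConj.1 e)).symm)
  have := Nat.card_le_card_of_injective f hf
  rw [Finite.card_option] at this
  omega

/-- A subgroup in which every element has at most two conjugates. -/
theorem half_subgroup (B : Subgroup G)
    (h2 : ∀ b ∈ B, ∃ b₂ : G, ∀ x, x * b * x⁻¹ ∈ B → x * b * x⁻¹ = b ∨ x * b * x⁻¹ = b₂) :
    Nat.card B + 1 ≤ 2 * Nat.card (ConjClasses G) := by
  classical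
  haveI := Fintype.ofFinite G
  haveI := Fintype.ofFinite (ConjClasses G)
  let s : Finset G := (Finset.univ.filter (· ∈ B)).erase 1
  let t : Finset (ConjClasses G) := Finset.univ.erase (ConjClasses.mk 1)
  have hs : s.card + 1 = Nat.card B := by
    have h1 : (1 : G) ∈ Finset.univ.filter (· ∈ B) := by simp
    rw [Finset.card_erase_add_one h1, Nat.card_eq_fintype_card, Fintype.card_subtype]
  have ht : t.card + 1 = Nat.card (ConjClasses G) := by
    rw [Finset.card_erase_add_one (Finset.mem_univ _), Finset.card_univ, Nat.card_eq_fintype_card]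
  have hle : s.card ≤ 2 * t.card := by
    refine Finset.card_le_mul_card_image_of_maps_to (f := ConjClasses.mk) ?_ 2 ?_
    · intro g hg
      refine Finset.mem_erase.2 ⟨fun e => (Finset.mem_erase.1 hg).1 ?_, Finset.mem_univ _⟩
      exact isConj_one_right.1 (ConjClasses.mk_eq_mk_iff_isConj.1 e).symm
    · intro c _
      rcases ({a ∈ s | ConjClasses.mk a = c}).eq_empty_or_nonempty with he | ⟨b, hb⟩
      · simp [he]
      simp only [s, Finset.mem_filter, Finset.mem_erase, Finset.mem_univ, true_and] at hb
      obtain ⟨b₂, hb₂⟩ := h2 b hb.1.2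
      refine le_trans (Finset.card_le_card (t := {b, b₂}) fun g hg => ?_) Finset.card_le_two
      simp only [s, Finset.mem_filter, Finset.mem_erase, Finset.mem_univ, true_and] at hg
      obtain ⟨x, hx⟩ := isConj_iff.1
        (ConjClasses.mk_eq_mk_iff_isConj.1 (hb.2.trans hg.2.symm))
      rcases hb₂ x (hx ▸ hg.1.2) with h | h <;> simp [← hx, h]
  omega

/-- Two classes over the same class of a quotient, twice. -/
theorem classes_add_two [Finite H] (f : G →* H) (hf : Function.Surjective f) {a b c d : G}
    (hab : f a = f b) (hcd : f c = f d) (hnab : ¬ IsConj a b) (hncd : ¬ IsConj c d)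
    (hne : ¬ IsConj (f a) (f c)) :
    Nat.card (ConjClasses H) + 2 ≤ Nat.card (ConjClasses G) := by
  let s := Function.surjInv (ConjClasses.map_surjective hf)
  have hs : ∀ C, ConjClasses.map f (s C) = C := Function.surjInv_eq (ConjClasses.map_surjective hf)
  have pick : ∀ x y : G, f x = f y → ¬ IsConj x y → ∃ C : ConjClasses G,
      ConjClasses.map f C = ConjClasses.mk (f x) ∧ C ∉ Set.range s := by
    intro x y hxy hn
    by_cases h : s (ConjClasses.mk (f x)) = ConjClasses.mk x
    · refine ⟨ConjClasses.mk y, ?_, ?_⟩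
      · show ConjClasses.mk (f y) = _
        rw [hxy]
      · rintro ⟨C, hC⟩
        have h1 := hs C
        rw [hC] at h1
        rw [← h1, show ConjClasses.map f (ConjClasses.mk y) = ConjClasses.mk (f y) from rfl,
          ← hxy, h] at hC
        exact hn (ConjClasses.mk_eq_mk_iff_isConj.1 hC)
    · refine ⟨ConjClasses.mk x, rfl, ?_⟩
      rintro ⟨C, hC⟩
      have h1 := hs C
      rw [hC] at h1
      rw [← h1] at hC
      exact h hC
  obtain ⟨C₁, h1, h1'⟩ := pick a b hab hnab
  obtain ⟨C₂, h2, h2'⟩ := pick c d hcd hncd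
  let F : Option (Option (ConjClasses H)) → ConjClasses G := fun o =>
    o.elim C₁ fun o => o.elim C₂ s
  have hne' : C₁ ≠ C₂ := fun e => hne (ConjClasses.mk_eq_mk_iff_isConj.1 (by rw [← h1, e, h2]))
  have hF : Function.Injective F := by
    rintro (_ | _ | x) (_ | _ | y) e
    · rfl
    · exact absurd e hne'
    · exact absurd ⟨y, e.symm⟩ h1'
    · exact absurd e.symm hne'
    · rfl
    · exact absurd ⟨y, e.symm⟩ h2'
    · exact absurd ⟨x, e⟩ h1'
    · exact absurd ⟨x, e⟩ h2'
    · exact congrArg (fun z => some (some z)) (Function.injective_surjInv _ e)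
  have := Nat.card_le_card_of_injective F hF
  rw [Finite.card_option, Finite.card_option] at this
  omega

end H13.TwoClass
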