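import Cfsg.Agent.H13.TwoClass.Cases

/-!
The exceptional quotient over a non-trivial `p'`-kernel: at least eleven classes.
-/

set_option autoImplicit false
set_option linter.style.haveILetI false
set_option linter.unusedSectionVars false

namespace H13.TwoClass

open Subgroup

universe u

variable {G : Type u} [Group G] [Finite G] [Fact (Nat.Prime 11)]

theorem kernel_case (O : Subgroup G) [O.Normal] (hO : ¬ 11 ∣ Nat.card O) (hO1 : O ≠ ⊥)
    (hconj : OneClass 11 G) {V K : Subgroup (G ⧸ O)} (h : Split 11 V K)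
    (hV : Nat.card V = 121) (e : K ≃* Matrix.SpecialLinearGroup (Fin 2) (ZMod 5)) :
    11 ≤ regCount 11 G := by
  classical
  haveI := h.normal
  have hk9 : Nat.card (ConjClasses K) = 9 := by rw [classes_congr e]; exact sl25_classes
  -- two non-conjugate elements in the kernel suffice
  by_cases htwo : ∃ a ∈ O, ∃ b ∈ O, a ≠ 1 ∧ b ≠ 1 ∧ ¬ IsConj a b
  · obtain ⟨a, ha, b, hb, ha1, hb1, hab⟩ := htwo
    have := count_extra (p := 11) O hO h.compl h.coprime (ι := Bool) (fun i => cond i a b)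
      (by rintro (_ | _); exacts [⟨hb, hb1⟩, ⟨ha, ha1⟩])
      (by
        rintro (_ | _) (_ | _) hij
        · rfl
        · exact absurd hij.symm hab
        · exact absurd hij hab
        · rfl)
    rw [hk9, Nat.card_eq_fintype_card, Fintype.card_bool] at this
    exact this
  push Not at htwo
  -- the kernel is abelian
  obtain ⟨r, hr, hrdvd⟩ := Nat.exists_prime_and_dvd (n := Nat.card O)
    (fun h => hO1 (Subgroup.eq_bot_of_card_eq _ h))
  haveI := Fact.mk hr
  obtain ⟨o₀, ho₀⟩ := exists_prime_orderOf_dvd_card' (G := O) r hrdvd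
  have ho₀1 : (o₀ : G) ≠ 1 := fun e => hr.ne_one (by
    rw [← ho₀, ← Subgroup.orderOf_coe, e, orderOf_one])
  have hO_pg : IsPGroup r O := fun a => by
    rcases eq_or_ne (a : G) 1 with ha | ha
    · exact ⟨0, Subtype.ext (by simp [ha])⟩
    · obtain ⟨c, hc⟩ := isConj_iff.1 (htwo _ o₀.2 _ a.2 ho₀1 ha)
      refine ⟨1, Subtype.ext ?_⟩
      show (a : G) ^ r ^ 1 = 1
      rw [pow_one, ← hc, conj_pow, show (o₀ : G) ^ r = 1 by
        rw [← ho₀, ← Subgroup.orderOf_coe, pow_orderOf_eq_one], mul_one, mul_inv_cancel]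
  haveI : Nontrivial O := (Subgroup.nontrivial_iff_ne_bot O).2 hO1
  obtain ⟨z, hz, hz1⟩ := (Subgroup.bot_or_exists_ne_one (Subgroup.center O)).resolve_left
    (fun h => by
      have := hO_pg.center_nontrivial
      rw [Subgroup.nontrivial_iff_ne_bot] at this
      exact this h)
  have hz1' : (z : G) ≠ 1 := fun e => hz1 (Subtype.ext e)
  have hOn : O.Normal := inferInstance
  have hOab : ∀ a ∈ O, ∀ b ∈ O, a * b = b * a := by
    intro a ha b hb
    rcases eq_or_ne a 1 with rfl | ha1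
    · simp
    obtain ⟨g, hg⟩ := isConj_iff.1 (htwo _ z.2 a ha hz1' ha1)
    have hb' : g⁻¹ * b * g ∈ O := by simpa using hOn.conj_mem b hb g⁻¹
    have h1 : g⁻¹ * b * g * (z : G) = z * (g⁻¹ * b * g) :=
      congrArg Subtype.val (Subgroup.mem_center_iff.1 hz ⟨_, hb'⟩)
    calc a * b = g * ((z : G) * (g⁻¹ * b * g)) * g⁻¹ := by rw [← hg]; group
      _ = g * (g⁻¹ * b * g * (z : G)) * g⁻¹ := by rw [h1]
      _ = b * a := by rw [← hg]; group
  -- the Sylow subgroup
  obtain ⟨P⟩ : Nonempty (Sylow 11 G) := inferInstance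
  set π := QuotientGroup.mk' O with hπ
  have hπs : Function.Surjective π := QuotientGroup.mk'_surjective O
  have hPV : (P : Subgroup G).map π = V := by
    have hVp : IsPGroup 11 V := IsPGroup.of_card (n := 2) (by rw [hV]; norm_num)
    have h1 : ((P.mapSurjective hπs : Sylow 11 (G ⧸ O)) : Subgroup (G ⧸ O)) ≤ V := by
      intro x hx
      obtain ⟨j, hj⟩ := IsPGroup.iff_orderOf.1 (P.mapSurjective hπs).2 ⟨x, hx⟩
      exact h.mem_of_order x ⟨j, by rw [← hj, ← Subgroup.orderOf_coe]⟩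
    have h2 := (P.mapSurjective hπs).3 hVp h1
    rw [← Sylow.coe_mapSurjective hπs P]
    exact h2.symm
  have hPO : ∀ x ∈ (P : Subgroup G), x ∈ O → x = 1 := by
    intro x hx hxO
    obtain ⟨j, hj⟩ := IsPGroup.iff_orderOf.1 P.2 ⟨x, hx⟩
    rw [← Subgroup.orderOf_coe] at hj
    have hd := Subgroup.orderOf_dvd_natCard O hxO
    rcases j with _ | j
    · exact orderOf_eq_one_iff.1 (by simpa using hj)
    · exact absurd ((hj ▸ dvd_pow_self 11 (Nat.succ_ne_zero j) : 11 ∣ orderOf x).trans hd) hO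
  have hPinj : ∀ x ∈ (P : Subgroup G), ∀ y ∈ (P : Subgroup G), π x = π y → x = y := by
    intro x hx y hy hxy
    refine inv_mul_eq_one.1 (hPO _ ((P : Subgroup G).mul_mem ((P : Subgroup G).inv_mem hx) hy) ?_)
    exact QuotientGroup.eq.1 hxy
  have hPmem : ∀ x ∈ (P : Subgroup G), π x ∈ V := fun x hx => hPV ▸ ⟨x, hx, rfl⟩
  have hPab : ∀ x ∈ (P : Subgroup G), ∀ y ∈ (P : Subgroup G), x * y = y * x := fun x hx y hy =>
    hPinj _ ((P : Subgroup G).mul_mem hx hy) _ ((P : Subgroup G).mul_mem hy hx) (by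
      rw [map_mul, map_mul, h.comm _ (hPmem x hx) _ (hPmem y hy)])
  have hPexp : ∀ x ∈ (P : Subgroup G), x ^ 11 = 1 := fun x hx =>
    hPinj _ ((P : Subgroup G).pow_mem hx 11) _ (one_mem _) (by
      rw [map_pow, h.pow_eq _ (hPmem x hx), map_one])
  have hPcard : Nat.card (P : Subgroup G) = 121 := by
    rw [← hV, ← hPV]
    refine Nat.card_eq_of_bijective (fun x => (⟨π x, x, x.2, rfl⟩ : (P : Subgroup G).map π))
      ⟨fun x y hxy => Subtype.ext (hPinj x x.2 y y.2 (congrArg Subtype.val hxy)), ?_⟩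
    rintro ⟨_, x, hx, rfl⟩
    exact ⟨⟨x, hx⟩, rfl⟩
  -- the preimage of the normal subgroup
  have hX : ∀ x : G, π x ∈ V → ∃ o ∈ O, ∃ y ∈ (P : Subgroup G), x = o * y := by
    intro x hx
    obtain ⟨y, hy, hxy⟩ := hPV.symm ▸ hx
    exact ⟨x * y⁻¹, (QuotientGroup.eq_one_iff _).1 (by
      show π (x * y⁻¹) = 1
      rw [map_mul, map_inv, hxy, mul_inv_cancel]), y, hy, (inv_mul_cancel_right x y).symm⟩
  have hXconj : ∀ (g : G), ∀ y ∈ (P : Subgroup G), ∃ o ∈ O, ∃ y' ∈ (P : Subgroup G),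
      g * y * g⁻¹ = o * y' := fun g y hy => hX _ (by
    rw [map_mul, map_mul, map_inv]; exact h.normal.conj_mem _ (hPmem y hy) _)
  by_cases hPc : ∀ y ∈ (P : Subgroup G), ∀ o ∈ O, y * o = o * y
  · -- the Sylow subgroup is normal
    haveI hPn : (P : Subgroup G).Normal := ⟨fun y hy g => by
      obtain ⟨o, ho, y', hy', hg⟩ := hXconj g y hy
      have hc : Commute o y' := (hPc y' hy' o ho).symm
      have h1 : (o * y') ^ 11 = 1 := by
        rw [← hg, conj_pow, hPexp y hy, mul_one, mul_inv_cancel]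
      rw [hc.mul_pow, hPexp y' hy', mul_one] at h1
      have ho1 : o = 1 := by
        by_contra hne
        have h2 := orderOf_dvd_of_pow_eq_one h1
        rcases (Nat.dvd_prime (Fact.out : Nat.Prime 11)).1 h2 with e | e
        · exact hne (orderOf_eq_one_iff.1 e)
        · exact hO (e ▸ Subgroup.orderOf_dvd_natCard O ho)
      rw [hg, ho1, one_mul]
      exact hy'⟩
    obtain ⟨C, hC⟩ := Subgroup.exists_right_complement'_of_coprime (N := (P : Subgroup G))
      (by rw [hPcard, show 121 = 11 ^ 2 by norm_num]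
          exact ((Nat.Prime.coprime_iff_not_dvd Fact.out).2 P.not_dvd_index).pow_left 2)
    have hCc : ¬ 11 ∣ Nat.card C := by
      rw [← hC.symm.index_eq_card]; exact P.not_dvd_index
    have hdecC : ∀ g : G, ∃ y ∈ (P : Subgroup G), ∃ c ∈ C, g = y * c := fun g => by
      obtain ⟨⟨y, c⟩, hyc⟩ := hC.2 g
      exact ⟨y, y.2, c, c.2, hyc.symm⟩
    have hOC : ∀ o ∈ O, o ∈ C := by
      intro o ho
      obtain ⟨y, hy, c, hc, rfl⟩ := hdecC o
      have h1 : Commute y c := by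
        have h2 := hPc y hy (y * c) ho
        rw [mul_assoc y c y] at h2
        exact mul_left_cancel h2
      have h3 : (y * c) ^ Nat.card C = y ^ Nat.card C := by
        rw [h1.mul_pow, show c ^ Nat.card C = 1 from
          congrArg Subtype.val (pow_card_eq_one' (x := (⟨c, hc⟩ : C))), mul_one]
      have h4 : y ^ Nat.card C = 1 := hPO _ ((P : Subgroup G).pow_mem hy _)
        (h3 ▸ O.pow_mem ho _)
      have hy1 : y = 1 := by
        by_contra hne
        rcases (Nat.dvd_prime (Fact.out : Nat.Prime 11)).1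
          (orderOf_dvd_of_pow_eq_one (hPexp y hy)) with e | e
        · exact hne (orderOf_eq_one_iff.1 e)
        · exact hCc (e ▸ orderOf_dvd_of_pow_eq_one h4)
      rw [hy1, one_mul]
      exact hc
    let q : G ⧸ O →* Matrix.SpecialLinearGroup (Fin 2) (ZMod 5) :=
      e.toMonoidHom.comp (h.compl.symm.QuotientMulEquiv.toMonoidHom.comp (QuotientGroup.mk' V))
    have hq : Function.Surjective q :=
      e.surjective.comp (h.compl.symm.QuotientMulEquiv.surjective.comp (QuotientGroup.mk'_surjective V))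
    have hqker : ∀ x, q x = 1 ↔ x ∈ V := fun x => by
      show e (h.compl.symm.QuotientMulEquiv (QuotientGroup.mk' V x)) = 1 ↔ _
      rw [map_eq_one_iff _ e.injective, map_eq_one_iff _ h.compl.symm.QuotientMulEquiv.injective]
      exact QuotientGroup.eq_one_iff x
    let ψ : C →* Matrix.SpecialLinearGroup (Fin 2) (ZMod 5) := (q.comp π).comp C.subtype
    have hψ : Function.Surjective ψ := fun s => by
      obtain ⟨g, hg⟩ := hπs (hq s).choose
      obtain ⟨y, hy, c, hc, rfl⟩ := hdecC g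
      refine ⟨⟨c, hc⟩, ?_⟩
      show q (π c) = s
      rw [← (hq s).choose_spec, ← hg, map_mul π, map_mul q, (hqker _).2 (hPmem y hy), one_mul]
    have hker : ∀ c : C, c ∈ ψ.ker ↔ (c : G) ∈ O := by
      intro c
      rw [MonoidHom.mem_ker, show ψ c = q (π c) from rfl, hqker]
      refine ⟨fun hc => ?_, fun hc => ?_⟩
      · obtain ⟨o, ho, y, hy, hcy⟩ := hX _ hc
        have hyC : y ∈ C := by
          have : y = o⁻¹ * c := by rw [hcy, inv_mul_cancel_left]
          rw [this]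
          exact C.mul_mem (C.inv_mem (hOC o ho)) c.2
        have hy1 : y = 1 := Subgroup.mem_bot.1 (hC.disjoint.le_bot ⟨hy, hyC⟩)
        rw [hcy, hy1, mul_one]
        exact ho
      · rw [show π (c : G) = 1 from (QuotientGroup.eq_one_iff _).2 hc]
        exact one_mem V
    refine le_trans (extension_classes ψ hψ ?_ ?_ ?_ ?_) (count_complement hC hCc)
    · intro hb
      obtain ⟨o, ho, ho1⟩ := (Subgroup.bot_or_exists_ne_one O).resolve_left hO1
      have h1 := (hker ⟨o, hOC o ho⟩).2 ho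
      rw [hb, Subgroup.mem_bot] at h1
      exact ho1 (congrArg Subtype.val h1)
    · intro a ha b hb
      exact Subtype.ext (hOab a ((hker a).1 ha) b ((hker b).1 hb))
    · intro a ha b hb ha1 hb1
      obtain ⟨g, hg⟩ := isConj_iff.1 (htwo a ((hker a).1 ha) b ((hker b).1 hb)
        (fun e => ha1 (Subtype.ext e)) (fun e => hb1 (Subtype.ext e)))
      obtain ⟨y, hy, c, hc, rfl⟩ := hdecC g
      refine isConj_iff.2 ⟨⟨c, hc⟩, Subtype.ext ?_⟩
      show c * a * c⁻¹ = (b : G)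
      rw [← hg]
      calc c * a * c⁻¹ = y * (c * a * c⁻¹) * y⁻¹ := by
            rw [hPc y hy _ (hOn.conj_mem _ ((hker a).1 ha) c), mul_inv_cancel_right]
        _ = y * c * a * (y * c)⁻¹ := by group
    · intro hd
      refine hO (hd.trans ?_)
      exact Subgroup.card_dvd_of_injective
        ((C.subtype.comp ψ.ker.subtype).codRestrict O fun c => (hker c).1 c.2)
        fun a b hab => Subtype.ext (Subtype.ext (congrArg (fun x : O => (x : G)) hab))
  -- the Sylow subgroup acts without common fixed points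
  exfalso
  have hfix0 : ∀ o ∈ O, (∀ y ∈ (P : Subgroup G), y * o = o * y) → o = 1 := by
    intro o ho hco
    by_contra ho1
    refine hPc fun y hy b hb => ?_
    rcases eq_or_ne b 1 with rfl | hb1
    · simp
    obtain ⟨g, rfl⟩ := isConj_iff.1 (htwo o ho b hb ho1 hb1)
    obtain ⟨o', ho', y', hy', hg⟩ := hXconj g⁻¹ y hy
    rw [inv_inv] at hg
    have h1 : (g⁻¹ * y * g) * o = o * (g⁻¹ * y * g) := by
      rw [hg, mul_assoc, hco y' hy', ← mul_assoc, hOab o' ho' o ho, mul_assoc]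
    calc y * (g * o * g⁻¹) = g * ((g⁻¹ * y * g) * o) * g⁻¹ := by group
      _ = g * (o * (g⁻¹ * y * g)) * g⁻¹ := by rw [h1]
      _ = g * o * g⁻¹ * y := by group
  have hnotall : ∀ v ∈ (P : Subgroup G), v ≠ 1 → ∃ o ∈ O, v * o ≠ o * v := by
    intro v hv hv1
    by_contra hall
    push Not at hall
    refine hPc fun y hy o ho => ?_
    rcases eq_or_ne y 1 with rfl | hy1
    · simp
    have hord : ∀ x ∈ (P : Subgroup G), ∃ k, orderOf x = 11 ^ k := fun x hx => by
      obtain ⟨j, hj⟩ := IsPGroup.iff_orderOf.1 P.2 ⟨x, hx⟩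
      exact ⟨j, by rw [← hj, ← Subgroup.orderOf_coe]⟩
    obtain ⟨g, rfl⟩ := isConj_iff.1 (hconj v y hv1 hy1 (hord v hv) (hord _ hy))
    have h1 := hall (g⁻¹ * o * g) (by simpa using hOn.conj_mem o ho g⁻¹)
    calc g * v * g⁻¹ * o = g * (v * (g⁻¹ * o * g)) * g⁻¹ := by group
      _ = g * ((g⁻¹ * o * g) * v) * g⁻¹ := by rw [h1]
      _ = o * (g * v * g⁻¹) := by group
  -- each element of the kernel has a fixing element
  obtain ⟨v₀, hv₀, hv₀1, w₀, hw₀, hw₀1, hvw⟩ :
      ∃ v ∈ (P : Subgroup G), v ≠ 1 ∧ ∃ o ∈ O, o ≠ 1 ∧ v * o = o * v := by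
    by_contra hno
    push Not at hno
    letI : CommGroup O :=
      { (inferInstance : Group O) with mul_comm := fun a b => Subtype.ext (hOab a a.2 b b.2) }
    letI : MulDistribMulAction (P : Subgroup G) O :=
      MulDistribMulAction.compHom O ((MulAut.conjNormal : G →* MulAut O).comp (P : Subgroup G).subtype)
    have hab : H58.AbCyc (P : Subgroup G) := by
      refine H58.AbCyc.of_fpf (M := O) fun y hy m hm => ?_
      by_contra hm1
      refine hno y y.2 (fun e => hy (Subtype.ext e)) m m.2 (fun e => hm1 (Subtype.ext e)) ?_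
      exact mul_inv_eq_iff_eq_mul.1 (congrArg Subtype.val hm)
    have hcyc : IsCyclic (⊤ : Subgroup (P : Subgroup G)) :=
      hab ⊤ ⟨⟨fun a b => Subtype.ext (Subtype.ext (hPab _ a.1.2 _ b.1.2))⟩⟩
    obtain ⟨g, hg⟩ := hcyc.exists_ofOrder_eq_natCard
    rw [Subgroup.card_top, hPcard] at hg
    have h1 : orderOf g ∣ 11 :=
      orderOf_dvd_of_pow_eq_one (Subtype.ext (Subtype.ext (hPexp _ g.1.2)))
    rw [hg] at h1
    norm_num at h1
  have hfixer : ∀ o ∈ O, o ≠ 1 → ∃ v ∈ (P : Subgroup G), v ≠ 1 ∧ v * o = o * v := by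
    intro o ho ho1
    obtain ⟨g, rfl⟩ := isConj_iff.1 (htwo w₀ hw₀ o ho hw₀1 ho1)
    obtain ⟨o', ho', y', hy', hg⟩ := hXconj g v₀ hv₀
    refine ⟨y', hy', fun hy1 => ?_, ?_⟩
    · rw [hy1, mul_one] at hg
      have hv : v₀ ∈ O := by
        have := hOn.conj_mem o' ho' g⁻¹
        rw [← hg] at this
        simpa [mul_assoc] using this
      exact hv₀1 (hPO v₀ hv₀ hv)
    · have h1 : (o' * y') * (g * w₀ * g⁻¹) = (g * w₀ * g⁻¹) * (o' * y') := by
        rw [← hg]
        calc g * v₀ * g⁻¹ * (g * w₀ * g⁻¹) = g * (v₀ * w₀) * g⁻¹ := by group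
          _ = g * (w₀ * v₀) * g⁻¹ := by rw [hvw]
          _ = g * w₀ * g⁻¹ * (g * v₀ * g⁻¹) := by group
      generalize hm : g * w₀ * g⁻¹ = m at h1 ⊢
      have hmO : m ∈ O := hm ▸ hOn.conj_mem w₀ hw₀ g
      rw [← mul_assoc m, ← hOab o' ho' m hmO, mul_assoc, mul_assoc] at h1
      exact mul_left_cancel h1
  -- the fixing subgroups are lines
  let T : G → Subgroup (P : Subgroup G) := fun o =>
    (Subgroup.centralizer ({o} : Set G)).subgroupOf (P : Subgroup G)
  have hT : ∀ (o : G) (y : (P : Subgroup G)), y ∈ T o ↔ (y : G) * o = o * y := fun o y => by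
    rw [Subgroup.mem_subgroupOf, Subgroup.mem_centralizer_singleton_iff]
  have hTtop : ∀ o ∈ O, T o = ⊤ → o = 1 := fun o ho htop => hfix0 o ho fun y hy =>
    (hT o ⟨y, hy⟩).1 (htop ▸ Subgroup.mem_top _)
  have hTline : ∀ o ∈ O, o ≠ 1 → ∀ v : (P : Subgroup G), v ≠ 1 → v ∈ T o → T o = zpowers v := by
    intro o ho ho1 v hv1 hv
    have hd : Nat.card (T o) ∣ 11 ^ 2 := by
      have := (T o).card_subgroup_dvd_card
      rw [hPcard] at this
      simpa using this
    obtain ⟨i, hi, hcard⟩ := (Nat.dvd_prime_pow (Fact.out : Nat.Prime 11)).1 hd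
    have hv11 : orderOf v = 11 := orderOf_eq_prime (Subtype.ext (hPexp v v.2)) hv1
    have hlt : i ≠ 2 := fun e => ho1 (hTtop o ho (Subgroup.eq_top_of_card_eq _ (by
      rw [hcard, e, hPcard]; norm_num)))
    refine (Subgroup.eq_of_le_of_card_ge (Subgroup.zpowers_le.2 hv) ?_).symm
    rw [Nat.card_zpowers, hv11, hcard]
    calc 11 ^ i ≤ 11 ^ 1 := Nat.pow_le_pow_right (by norm_num) (by omega)
      _ = 11 := pow_one 11
  obtain ⟨y, hy, hny⟩ := hnotall v₀ hv₀ hv₀1
  have hy1 : y ≠ 1 := fun e => hny (by simp [e])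
  obtain ⟨w, hw, hw1, hwy⟩ := hfixer y hy hy1
  have hxy : w₀ * y ≠ 1 := fun e => hny (by
    rw [eq_inv_of_mul_eq_one_right e]
    exact (Commute.inv_right hvw).eq)
  obtain ⟨u, hu, hu1, huz⟩ := hfixer _ (O.mul_mem hw₀ hy) hxy
  set v' : (P : Subgroup G) := ⟨v₀, hv₀⟩ with hv'
  set w' : (P : Subgroup G) := ⟨w, hw⟩ with hw'
  have hv'1 : v' ≠ 1 := fun e => hv₀1 (congrArg Subtype.val e)
  have hw'1 : w' ≠ 1 := fun e => hw1 (congrArg Subtype.val e)
  have hvne : v' ∉ T y := fun h => hny ((hT y v').1 h)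
  set d := u * w₀ * u⁻¹ * w₀⁻¹ with hd
  have hdy : d = (u * y * u⁻¹ * y⁻¹)⁻¹ := by
    have hcy : u * y * u⁻¹ ∈ O := hOn.conj_mem y hy u
    have hcw : u * w₀ * u⁻¹ ∈ O := hOn.conj_mem w₀ hw₀ u
    have h1 : (u * w₀ * u⁻¹) * (u * y * u⁻¹) = w₀ * y := by
      calc (u * w₀ * u⁻¹) * (u * y * u⁻¹) = u * (w₀ * y) * u⁻¹ := by group
        _ = w₀ * y := by rw [huz, mul_inv_cancel_right]
    rw [hd, mul_inv_rev, inv_inv]
    calc u * w₀ * u⁻¹ * w₀⁻¹ = (u * w₀ * u⁻¹) * (u * y * u⁻¹) * (u * y * u⁻¹)⁻¹ * w₀⁻¹ := by group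
      _ = w₀ * y * (u * y * u⁻¹)⁻¹ * w₀⁻¹ := by rw [h1]
      _ = y * (u * y * u⁻¹)⁻¹ := by
        rw [mul_assoc w₀ y, hOab _ hw₀ _ (O.mul_mem hy (O.inv_mem hcy)), mul_inv_cancel_right]
  have hdO : d ∈ O := O.mul_mem (hOn.conj_mem w₀ hw₀ u) (O.inv_mem hw₀)
  have hfixcomm : ∀ v ∈ (P : Subgroup G), ∀ o : G, v * o = o * v →
      Commute v (u * o * u⁻¹ * o⁻¹) := fun v hv o hvo =>
    (((show Commute v u from hPab v hv u hu).mul_right hvo).mul_right
      (show Commute v u from hPab v hv u hu).inv_right).mul_right (Commute.inv_right hvo)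
  have hd1 : d = 1 := by
    by_contra hdne
    have hvT : v' ∈ T d := (hT d v').2 (hfixcomm v₀ hv₀ w₀ hvw).eq
    have hwT : w' ∈ T d := (hT d w').2 (by
      rw [hdy]; exact (hfixcomm w hw y hwy).inv_right.eq)
    rw [hTline d hdO hdne w' hw'1 hwT, ← hTline y hy hy1 w' hw'1 ((hT y w').2 hwy)] at hvT
    exact hvne hvT
  have huy : u * y = y * u := by
    have h1 := hdy.symm.trans hd1
    rw [inv_eq_one, mul_inv_eq_one] at h1
    exact mul_inv_eq_iff_eq_mul.1 h1
  have huw : u * w₀ = w₀ * u := by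
    rw [hd, mul_inv_eq_one] at hd1
    exact mul_inv_eq_iff_eq_mul.1 hd1
  set u' : (P : Subgroup G) := ⟨u, hu⟩ with hu'
  have hu'1 : u' ≠ 1 := fun e => hu1 (congrArg Subtype.val e)
  refine hvne ?_
  rw [hTline y hy hy1 u' hu'1 ((hT y u').2 huy), ← hTline w₀ hw₀ hw₀1 u' hu'1 ((hT w₀ u').2 huw)]
  exact (hT w₀ v').2 hvw

end H13.TwoClass
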