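import Cfsg.Agent.H13.TwoClass.Kernel

/-!
`p`-solvable groups with one class of non-identity `p`-elements: the count of `p`-regular classes.
-/

set_option autoImplicit false
set_option linter.style.haveILetI false

namespace H13.TwoClass

open Subgroup

universe u

theorem main {G : Type u} [Group G] [Finite G] (p : ℕ) [hp : Fact p.Prime]
    (hsolv : Cfsg.IsPSolvable p G) (hdiv : p ∣ Nat.card G) (hconj : OneClass p G) :
    p ≤ regCount p G ∨ (regCount p G = p - 1 ∧ Nonempty (G ≃* Cfsg.affineGroup (ZMod p))) ∨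
      (p = 11 ∧ regCount p G = 9 ∧ (Nat.card G = 121 * 120 ∧ ∃ H : Subgroup G,
        Cfsg.IsFrobeniusComplement H ∧
          Nonempty (H ≃* Matrix.SpecialLinearGroup (Fin 2) (ZMod 5)))) := by
  by_cases hk : p ≤ regCount p G
  · exact Or.inl hk
  rcases eq_or_ne (Cfsg.pPrimeCore p G) ⊥ with h0 | h0
  · -- no kernel
    obtain ⟨V, K, h⟩ := exists_split_structure hsolv h0 hdiv hconj
    haveI := h.normal
    have hle := count_complement h.compl h.coprime
    rcases eq_or_ne (Nat.card V) p with hV | hV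
    · obtain ⟨hK, -⟩ := h.prime_case hV
      exact Or.inr (Or.inl ⟨by omega, h.affine hV⟩)
    rcases h.linear hV with hl | ⟨rfl, hV', hK, ⟨e⟩⟩
    · omega
    have hne : K ≠ ⊥ := fun e' => by
      rw [e', Subgroup.card_bot] at hK
      omega
    obtain ⟨hF, hle'⟩ := h.exceptional (by rw [hK, hV']) hne
    refine Or.inr (Or.inr ⟨rfl, ?_, ?_, K, hF, ⟨e⟩⟩)
    · rw [le_antisymm hle' hle, classes_congr e]
      exact sl25_classes
    · rw [← h.card_mul, hV', hK]
  -- a kernel
  exfalso
  set O := Cfsg.pPrimeCore p G with hO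
  haveI : O.Normal := H10.pPrimeCore_normal
  have hOc : ¬ p ∣ Nat.card O := hp.out.coprime_iff_not_dvd.1 (H10.pPrimeCore_coprime (p := p) (G := G)).symm
  have hdiv' : p ∣ Nat.card (G ⧸ O) := by
    have h1 : p ∣ Nat.card (G ⧸ O) * Nat.card O := O.card_eq_card_quotient_mul_card_subgroup ▸ hdiv
    exact (hp.out.dvd_mul.1 h1).resolve_right hOc
  obtain ⟨V, K, h⟩ := exists_split_structure (H10.isPSolvable_quotient hsolv O)
    H10.pPrimeCore_quotient_pPrimeCore hdiv' (hconj.quotient O)
  haveI := h.normal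
  obtain ⟨o, ho, ho1⟩ := (Subgroup.bot_or_exists_ne_one O).resolve_left h0
  have hle := count_extra (p := p) O hOc h.compl h.coprime (ι := Unit) (fun _ => o)
    (fun _ => ⟨ho, ho1⟩) (fun _ _ _ => rfl)
  rw [Nat.card_eq_fintype_card (α := Unit), Fintype.card_unit] at hle
  rcases eq_or_ne (Nat.card V) p with hV | hV
  · obtain ⟨hK, -⟩ := h.prime_case hV
    omega
  rcases h.linear hV with hl | ⟨rfl, hV', -, ⟨e⟩⟩
  · omega
  exact hk (kernel_case O hOc h0 hconj h hV' e)

end H13.TwoClass
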