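import Cfsg.Agent.H13.TwoClass.Classes
import Cfsg.Agent.H23.KGV.Dim2Basic

/-!
A group of order prime to `p`, transitive but not regular on the non-zero vectors of a plane, has
at least `p` classes: it is enough to look at the stabiliser of a line.
-/

set_option autoImplicit false
set_option linter.style.haveILetI false
set_option linter.unusedSectionVars false

namespace H13.TwoClass

open H23.KGV

universe u v

variable {p : ℕ} [Fact p.Prime] {V : Type v} [AddCommGroup V] [Module (ZMod p) V] [Finite V]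
  {G : Type u} [Group G] [Finite G] {ρ : G →* (V ≃ₗ[ZMod p] V)}

/-- The stabiliser of the line through `u`. -/
def lineStab (ρ : G →* (V ≃ₗ[ZMod p] V)) (u : V) : Subgroup G where
  carrier := {g | (∃ a : ZMod p, ρ g u = a • u) ∧ ∃ a : ZMod p, ρ g⁻¹ u = a • u}
  one_mem' := ⟨⟨1, by simp⟩, 1, by simp⟩
  mul_mem' {g k} := by
    rintro ⟨⟨a, ha⟩, a', ha'⟩ ⟨⟨b, hb⟩, b', hb'⟩
    exact ⟨⟨b * a, by rw [map_mul, LinearEquiv.mul_apply, hb, map_smul, ha, smul_smul]⟩,
      a' * b', by rw [mul_inv_rev, map_mul, LinearEquiv.mul_apply, ha', map_smul, hb', smul_smul]⟩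
  inv_mem' {g} h := ⟨h.2, by rw [inv_inv]; exact h.1⟩

theorem mem_lineStab {u : V} (hu : u ≠ 0) {g : G} :
    g ∈ lineStab ρ u ↔ ∃ a : ZMod p, ρ g u = a • u := by
  refine ⟨fun h => h.1, fun ⟨a, ha⟩ => ⟨⟨a, ha⟩, a⁻¹, ?_⟩⟩
  have ha0 : a ≠ 0 := fun e => hu ((ρ g).map_eq_zero_iff.1 (by rw [ha, e, zero_smul]))
  apply (ρ g).injective
  rw [map_smul, ha, inv_smul_smul₀ ha0, ← LinearEquiv.mul_apply, ← map_mul, mul_inv_cancel, map_one]
  rfl

theorem card_lineStab (htr : ∀ x y : V, x ≠ 0 → y ≠ 0 → ∃ g : G, ρ g x = y) {u : V} (hu : u ≠ 0) :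
    Nat.card (lineStab ρ u) = (p - 1) * Nat.card (stab ρ u) := by
  let _ : MulAction (lineStab ρ u) V := MulAction.compHom V (ρ.comp (lineStab ρ u).subtype)
  have horb : MulAction.orbit (lineStab ρ u) u = Set.range fun a : (ZMod p)ˣ => (a : ZMod p) • u := by
    ext w
    constructor
    · rintro ⟨c, rfl⟩
      obtain ⟨a, ha⟩ := (mem_lineStab hu).1 c.2
      have ha0 : a ≠ 0 := fun e => hu ((ρ (c : G)).map_eq_zero_iff.1 (by rw [ha, e, zero_smul]))
      exact ⟨Units.mk0 a ha0, ha.symm⟩
    · rintro ⟨a, rfl⟩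
      obtain ⟨g, hg⟩ := htr u ((a : ZMod p) • u) hu (smul_ne_zero a.ne_zero hu)
      exact ⟨⟨g, (mem_lineStab hu).2 ⟨_, hg⟩⟩, hg⟩
  have hst : Nat.card (MulAction.stabilizer (lineStab ρ u) u) = Nat.card (stab ρ u) :=
    Nat.card_congr
      { toFun := fun c => ⟨((c : lineStab ρ u) : G), c.2⟩
        invFun := fun c => ⟨⟨(c : G), (mem_lineStab hu).2 ⟨1, by rw [one_smul]; exact c.2⟩⟩, c.2⟩
        left_inv := fun c => rfl
        right_inv := fun c => rfl }
  rw [← (MulAction.stabilizer (lineStab ρ u) u).index_mul_card, MulAction.index_stabilizer, hst,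
    horb, Set.ncard_range_of_injective (fun a b h => Units.ext (smul_left_injective _ hu h)),
    Nat.card_eq_fintype_card, ZMod.card_units]

variable (hd : Module.finrank (ZMod p) V = 2) (hρ : Function.Injective ρ)
  (hcop : ¬ p ∣ Nat.card G)

include hd hρ

theorem coord_unique {u y : V} (hli : LinearIndependent (ZMod p) ![u, y]) {a b a' b' : ZMod p}
    (h : a • u + b • y = a' • u + b' • y) : a = a' ∧ b = b' := by
  have := LinearIndependent.pair_iff.1 hli (a - a') (b - b')
    (by rw [sub_smul, sub_smul]; linear_combination (norm := module) h)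
  exact ⟨sub_eq_zero.1 this.1, sub_eq_zero.1 this.2⟩

include hcop

theorem triangular_eq_one {u y : V} (hli : LinearIndependent (ZMod p) ![u, y]) {g : G} {c : ZMod p}
    (hu : ρ g u = u) (hy : ρ g y = c • u + y) : g = 1 := by
  have hk : ∀ k : ℕ, ρ (g ^ k) y = ((k : ZMod p) * c) • u + y := by
    intro k
    induction k with
    | zero => simp
    | succ k ih =>
      rw [pow_succ', map_mul, LinearEquiv.mul_apply, ih, map_add, map_smul, hu, hy, Nat.cast_succ,
        add_mul, one_mul, add_smul, add_assoc]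
  have hG := hk (Nat.card G)
  rw [pow_card_eq_one', map_one, one_apply'] at hG
  have h0 := coord_unique hd hρ hli
    (show (0 : ZMod p) • u + (1 : ZMod p) • y = ((Nat.card G : ZMod p) * c) • u + (1 : ZMod p) • y by
      rw [zero_smul, one_smul, zero_add]; exact hG)
  have hne : (Nat.card G : ZMod p) ≠ 0 := fun e => hcop ((ZMod.natCast_eq_zero_iff _ _).1 e)
  have hc : c = 0 := (mul_eq_zero.1 h0.1.symm).resolve_left hne
  rw [hc, zero_smul, zero_add] at hy
  exact eq_one_of_fix_two hd hρ hli hu hy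

/-- A non-regular transitive plane group has at least `p` classes. -/
theorem split_lower (hp : 2 ≤ p)
    (htr : ∀ x y : V, x ≠ 0 → y ≠ 0 → ∃ g : G, ρ g x = y) {u : V} (hu : u ≠ 0)
    (hh : 2 ≤ Nat.card (stab ρ u)) : p ≤ Nat.card (ConjClasses G) := by
  obtain ⟨y, hli⟩ := exists_indep hd hu
  set B := lineStab ρ u with hB
  have hform : ∀ b ∈ B, ∃ a c d : ZMod p, ρ b u = a • u ∧ ρ b y = c • u + d • y := fun b hb => by
    obtain ⟨a, ha⟩ := (mem_lineStab hu).1 hb
    obtain ⟨c, d, hcd⟩ := eq_comb hd hli (ρ b y)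
    exact ⟨a, c, d, ha, hcd⟩
  choose! A C D hA hD using hform
  have huniq : ∀ b ∈ B, ∀ a c d : ZMod p, ρ b u = a • u → ρ b y = c • u + d • y →
      a = A b ∧ c = C b ∧ d = D b := fun b hb a c d h1 h2 => by
    rw [hA b hb] at h1
    rw [hD b hb] at h2
    obtain ⟨e1, e2⟩ := coord_unique hd hρ hli h2
    exact ⟨(smul_left_injective _ hu h1).symm, e1.symm, e2.symm⟩
  have hmul : ∀ b ∈ B, ∀ b' ∈ B, A (b * b') = A b * A b' ∧ D (b * b') = D b * D b' := by
    intro b hb b' hb'
    obtain ⟨e1, -, e3⟩ := huniq _ (mul_mem hb hb') (A b * A b') (C b' * A b + D b' * C b)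
      (D b * D b')
      (by rw [map_mul, LinearEquiv.mul_apply, hA b' hb', map_smul, hA b hb, smul_smul, mul_comm])
      (by rw [map_mul, LinearEquiv.mul_apply, hD b' hb', map_add, map_smul, map_smul, hA b hb,
        hD b hb]; module)
    exact ⟨e1.symm, e3.symm⟩
  have hinj : ∀ b ∈ B, ∀ b' ∈ B, A b = A b' → D b = D b' → b = b' := by
    intro b hb b' hb' ha hd'
    have hmem : b⁻¹ * b' ∈ B := mul_mem (inv_mem hb) hb'
    obtain ⟨h1, h2⟩ := hmul _ hb _ hmem
    rw [mul_inv_cancel_left] at h1 h2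
    have ha0 : A b ≠ 0 := fun e => hu ((ρ b).map_eq_zero_iff.1 (by rw [hA b hb, e, zero_smul]))
    have hd0 : D b ≠ 0 := fun e => by
      have h3 : ρ b (y - (C b / A b) • u) = 0 := by
        rw [map_sub, map_smul, hA b hb, hD b hb, e, zero_smul, add_zero, smul_smul,
          div_mul_cancel₀ _ ha0, sub_self]
      have h4 := sub_eq_zero.1 ((ρ b).map_eq_zero_iff.1 h3)
      exact one_ne_zero (coord_unique hd hρ hli
        (show (0 : ZMod p) • u + (1 : ZMod p) • y = (C b / A b) • u + (0 : ZMod p) • y by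
          rw [zero_smul, one_smul, zero_smul, zero_add, add_zero]; exact h4)).2
    rw [← ha] at h1
    rw [← hd'] at h2
    have e1 : A (b⁻¹ * b') = 1 := by
      have := h1.symm
      rwa [mul_eq_left₀ ha0] at this
    have e2 : D (b⁻¹ * b') = 1 := by
      have := h2.symm
      rwa [mul_eq_left₀ hd0] at this
    refine inv_mul_eq_one.1 (triangular_eq_one hd hρ hcop hli (c := C (b⁻¹ * b')) ?_ ?_)
    · rw [hA _ hmem, e1, one_smul]
    · rw [hD _ hmem, e2, one_smul]
  have hscal : ∀ b ∈ B, A b = D b → C b = 0 → ∀ x, x * b * x⁻¹ = b := by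
    intro b hb h1 h2 x
    have hsc : b ∈ scal ρ := ⟨A b, fun w => by
      obtain ⟨s, t, rfl⟩ := eq_comb hd hli w
      rw [map_add, map_smul, map_smul, hA b hb, hD b hb, h2, ← h1]
      module⟩
    obtain ⟨α, hα⟩ := hsc
    refine mul_inv_eq_iff_eq_mul.2 (hρ (LinearEquiv.ext fun w => ?_))
    rw [map_mul, map_mul, LinearEquiv.mul_apply, LinearEquiv.mul_apply, hα, hα, map_smul]
  have hquad : ∀ b ∈ B, ∀ x : G, ∀ w : V, ρ (x * b * x⁻¹) (ρ (x * b * x⁻¹) w) =
      (A b + D b) • ρ (x * b * x⁻¹) w - (A b * D b) • w := by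
    intro b hb x w
    have h0 : ∀ w : V, ρ b (ρ b w) = (A b + D b) • ρ b w - (A b * D b) • w := by
      intro w
      obtain ⟨s, t, rfl⟩ := eq_comb hd hli w
      simp only [map_add, map_smul, hA b hb, hD b hb]
      module
    have e3 : ∀ z : V, ρ x (ρ x⁻¹ z) = z := fun z => by
      rw [← LinearEquiv.mul_apply, ← map_mul, mul_inv_cancel, map_one]
      rfl
    have e4 : ∀ z : V, ρ x⁻¹ (ρ x z) = z := fun z => by
      rw [← LinearEquiv.mul_apply, ← map_mul, inv_mul_cancel, map_one]
      rfl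
    simp only [map_mul, LinearEquiv.mul_apply, e4, h0, map_sub, map_smul, e3]
  have htwo : ∀ b ∈ B, ∃ b₂ : G, ∀ x, x * b * x⁻¹ ∈ B →
      x * b * x⁻¹ = b ∨ x * b * x⁻¹ = b₂ := by
    intro b hb
    have key : ∀ x, x * b * x⁻¹ ∈ B → x * b * x⁻¹ = b ∨
        (A (x * b * x⁻¹) = D b ∧ D (x * b * x⁻¹) = A b) := by
      intro x hx
      set b' := x * b * x⁻¹ with hb'
      have q1 := hquad b hb x u
      rw [← hb', hA b' hx, map_smul, hA b' hx] at q1
      have q1' : A b' * A b' = (A b + D b) * A b' - A b * D b :=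
        smul_left_injective _ hu (show (A b' * A b') • u = _ • u by
          linear_combination (norm := module) q1)
      have q2 := hquad b hb x y
      rw [← hb', hD b' hx, map_add, map_smul, map_smul, hA b' hx, hD b' hx] at q2
      obtain ⟨q2c, q2d⟩ := coord_unique hd hρ hli
        (show (C b' * A b' + D b' * C b') • u + (D b' * D b') • y =
          ((A b + D b) * C b') • u + ((A b + D b) * D b' - A b * D b) • y by
          linear_combination (norm := module) q2)
      have ra : A b' = A b ∨ A b' = D b := by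
        have : (A b' - A b) * (A b' - D b) = 0 := by linear_combination q1'
        rcases mul_eq_zero.1 this with h | h
        exacts [Or.inl (sub_eq_zero.1 h), Or.inr (sub_eq_zero.1 h)]
      have rd : D b' = A b ∨ D b' = D b := by
        have : (D b' - A b) * (D b' - D b) = 0 := by linear_combination q2d
        rcases mul_eq_zero.1 this with h | h
        exacts [Or.inl (sub_eq_zero.1 h), Or.inr (sub_eq_zero.1 h)]
      have hsame : A b' = D b' → x * b * x⁻¹ = b ∨ A b + D b = A b' + D b' := by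
        intro h
        rcases eq_or_ne (C b') 0 with hc | hc
        · left
          have h1 := hscal b' hx h hc x⁻¹
          rw [hb'] at h1
          simp only [inv_inv, mul_assoc, inv_mul_cancel_left, inv_mul_cancel, mul_one] at h1
          rw [mul_assoc]; exact h1.symm
        · right
          exact mul_right_cancel₀ hc (by linear_combination -q2c)
      rcases ra with ha | ha <;> rcases rd with hd' | hd'
      · rcases hsame (ha.trans hd'.symm) with h | h
        · exact Or.inl h
        · rw [ha, hd'] at h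
          have e := add_left_cancel h
          exact Or.inl (hinj b' hx b hb ha (hd'.trans e.symm))
      · exact Or.inl (hinj b' hx b hb ha hd')
      · exact Or.inr ⟨ha, hd'⟩
      · rcases hsame (ha.trans hd'.symm) with h | h
        · exact Or.inl h
        · rw [ha, hd'] at h
          have e := add_right_cancel h
          exact Or.inl (hinj b' hx b hb (ha.trans e.symm) hd')
    by_cases hex : ∃ b₂ ∈ B, A b₂ = D b ∧ D b₂ = A b
    · obtain ⟨b₂, hb₂, h1, h2⟩ := hex
      refine ⟨b₂, fun x hx => (key x hx).imp_right fun h => ?_⟩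
      exact hinj _ hx _ hb₂ (h.1.trans h1.symm) (h.2.trans h2.symm)
    · exact ⟨b, fun x hx => (key x hx).imp_right fun h => absurd ⟨_, hx, h⟩ hex⟩
  have h := half_subgroup B htwo
  rw [hB, card_lineStab htr hu] at h
  have h' : (p - 1) * 2 ≤ (p - 1) * Nat.card (stab ρ u) := Nat.mul_le_mul_left _ hh
  omega

end H13.TwoClass
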