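import Cfsg.Agent.H13.TwoClass.Classes
import Cfsg.Agent.H10.PSolvable
import Cfsg.Agent.H1.AbelianPComplement
import Cfsg.Agent.H58.AbCyclic

/-!
`p`-solvable groups in which all non-identity `p`-elements are conjugate: the reduction to a
linear group.
-/

set_option autoImplicit false
set_option linter.style.haveILetI false
set_option linter.unusedSectionVars false

namespace H13.TwoClass

open Subgroup

universe u

/-- The number of classes of `p`-regular elements. -/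
noncomputable def regCount (p : ℕ) (G : Type u) [Group G] : ℕ :=
  Nat.card {c : ConjClasses G // ∃ g : G, ConjClasses.mk g = c ∧ ¬ p ∣ orderOf g}

/-- All non-identity `p`-elements are conjugate. -/
def OneClass (p : ℕ) (G : Type u) [Group G] : Prop :=
  ∀ x y : G, x ≠ 1 → y ≠ 1 → (∃ k : ℕ, orderOf x = p ^ k) → (∃ k : ℕ, orderOf y = p ^ k) →
    IsConj x y

variable {p : ℕ} [hp : Fact p.Prime] {G : Type u} [Group G] [Finite G]

theorem regular_of_dvd {g : G} {n : ℕ} (h : orderOf g ∣ n) (hn : ¬ p ∣ n) : ¬ p ∣ orderOf g :=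
  fun hd => hn (hd.trans h)

theorem OneClass.quotient (h : OneClass p G) (N : Subgroup G) [N.Normal] : OneClass p (G ⧸ N) := by
  have hlift : ∀ y : G ⧸ N, y ≠ 1 → (∃ k, orderOf y = p ^ k) →
      ∃ x : G, (x : G ⧸ N) = y ∧ x ≠ 1 ∧ ∃ k, orderOf x = p ^ k := by
    rintro y hy ⟨k, hk⟩
    have hpg : IsPGroup p (zpowers y) := IsPGroup.of_card (by rw [Nat.card_zpowers, hk])
    obtain ⟨S, hS⟩ := hpg.exists_le_sylow
    obtain ⟨P, rfl⟩ := Sylow.mapSurjective_surjective
      (QuotientGroup.mk'_surjective N) p S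
    obtain ⟨x, hxP, hxy⟩ := hS (mem_zpowers y)
    refine ⟨x, hxy, fun e => hy (by rw [← hxy, e, map_one]), ?_⟩
    obtain ⟨j, hj⟩ := IsPGroup.iff_orderOf.1 P.2 ⟨x, hxP⟩
    exact ⟨j, by rw [← hj, ← Subgroup.orderOf_coe]⟩
  intro a b ha hb hpa hpb
  obtain ⟨x, rfl, hx, hpx⟩ := hlift a ha hpa
  obtain ⟨y, rfl, hy, hpy⟩ := hlift b hb hpb
  exact MonoidHom.map_isConj (QuotientGroup.mk' N) (h x y hx hy hpx hpy)

/-- In a normal-complement situation, elements of the complement are conjugate in it. -/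
theorem conj_in_complement {V K : Subgroup G} [V.Normal] (hVK : V.IsComplement' K) {a b : K}
    (h : IsConj (a : G) b) : IsConj a b := by
  obtain ⟨g, hg⟩ := isConj_iff.1 h
  obtain ⟨⟨v, k⟩, hvk⟩ := hVK.2 g
  simp only at hvk
  refine isConj_iff.2 ⟨k, Subtype.ext ?_⟩
  set c : G := (k : G) * a * (k : G)⁻¹ with hc
  have h1 : (v : G) * c * (v : G)⁻¹ = b := by rw [← hg, ← hvk, hc]; group
  have hcK : c ∈ K := mul_mem (mul_mem k.2 a.2) (inv_mem k.2)
  have hmem : c * (b : G)⁻¹ ∈ V := by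
    rw [← h1, show c * ((v : G) * c * (v : G)⁻¹)⁻¹ = (c * v * c⁻¹) * (v : G)⁻¹ by group]
    have hv : (v : G) ∈ V := v.2
    exact V.mul_mem (‹V.Normal›.conj_mem _ hv c) (V.inv_mem hv)
  have h2 : c * (b : G)⁻¹ = 1 := by
    have hmK : c * (b : G)⁻¹ ∈ K := mul_mem hcK (inv_mem b.2)
    have := hVK.disjoint.le_bot ⟨hmem, hmK⟩
    rwa [mem_bot] at this
  rw [Subgroup.coe_mul, Subgroup.coe_mul, Subgroup.coe_inv]
  exact mul_inv_eq_one.1 h2

/-- Classes of a complement in a quotient, and classes inside the kernel. -/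
theorem count_extra (N : Subgroup G) [N.Normal] (hN : ¬ p ∣ Nat.card N) {V K : Subgroup (G ⧸ N)}
    [V.Normal] (hVK : V.IsComplement' K) (hK : ¬ p ∣ Nat.card K) {ι : Type} [Finite ι] (o : ι → G)
    (ho : ∀ i, o i ∈ N ∧ o i ≠ 1) (hinj : ∀ i j, IsConj (o i) (o j) → i = j) :
    Nat.card (ConjClasses K) + Nat.card ι ≤ regCount p G := by
  classical
  have hlift : ∀ c : ConjClasses K, ∃ x : G, (∃ k : K, ConjClasses.mk k = c ∧ (x : G ⧸ N) = k) ∧
      ¬ p ∣ orderOf x ∧ (c = ConjClasses.mk 1 → x = 1) := by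
    intro c
    by_cases hc : c = ConjClasses.mk 1
    · exact ⟨1, ⟨1, hc.symm, rfl⟩, by rw [orderOf_one]; exact hp.out.not_dvd_one, fun _ => rfl⟩
    obtain ⟨k, rfl⟩ := ConjClasses.mk_surjective c
    obtain ⟨x, hx, hxo⟩ := H1.exists_lift_pRegular hp.out N (k : G ⧸ N)
      ((hp.out.coprime_iff_not_dvd.2 (regular_of_dvd
        (Subgroup.orderOf_dvd_natCard K k.2) hK)).symm)
    exact ⟨x, ⟨k, rfl, hx⟩, hp.out.coprime_iff_not_dvd.1 hxo.symm, fun h => absurd h hc⟩
  choose x hx hxo hx1 using hlift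
  rw [← Nat.card_sum, regCount]
  refine Nat.card_le_card_of_injective
    (Sum.elim (fun c => ⟨ConjClasses.mk (x c), x c, rfl, hxo c⟩)
      (fun i => ⟨ConjClasses.mk (o i), o i, rfl,
        regular_of_dvd (Subgroup.orderOf_dvd_natCard N (ho i).1) hN⟩)) ?_
  have key : ∀ c i, ¬ IsConj (x c) (o i) := by
    intro c i h
    obtain ⟨k, hk, hxk⟩ := hx c
    have h1 := MonoidHom.map_isConj (QuotientGroup.mk' N) h
    rw [show QuotientGroup.mk' N (o i) = 1 from (QuotientGroup.eq_one_iff _).2 (ho i).1,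
      show QuotientGroup.mk' N (x c) = (k : G ⧸ N) from hxk, isConj_one_left] at h1
    have hk1 : k = 1 := Subtype.ext h1
    rw [hx1 c (by rw [← hk, hk1])] at h
    exact (ho i).2 (isConj_one_right.1 h)
  rintro (c | i) (d | j) e
  · obtain ⟨k, hk, hxk⟩ := hx c
    obtain ⟨l, hl, hxl⟩ := hx d
    have h1 := MonoidHom.map_isConj (QuotientGroup.mk' N)
      (ConjClasses.mk_eq_mk_iff_isConj.1 (congrArg Subtype.val e))
    rw [show QuotientGroup.mk' N (x c) = (k : G ⧸ N) from hxk,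
      show QuotientGroup.mk' N (x d) = (l : G ⧸ N) from hxl] at h1
    refine congrArg Sum.inl ?_
    rw [← hk, ← hl]
    exact ConjClasses.mk_eq_mk_iff_isConj.2 (conj_in_complement hVK h1)
  · exact absurd (ConjClasses.mk_eq_mk_iff_isConj.1 (congrArg Subtype.val e)) (key c j)
  · exact absurd (ConjClasses.mk_eq_mk_iff_isConj.1 (congrArg Subtype.val e)).symm (key d i)
  · exact congrArg Sum.inr (hinj i j (ConjClasses.mk_eq_mk_iff_isConj.1 (congrArg Subtype.val e)))

/-- The classes of a complement. -/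
theorem count_complement {V K : Subgroup G} [V.Normal] (hVK : V.IsComplement' K)
    (hK : ¬ p ∣ Nat.card K) : Nat.card (ConjClasses K) ≤ regCount p G := by
  choose k hk using fun c : ConjClasses K => ConjClasses.mk_surjective c
  refine Nat.card_le_card_of_injective (fun c => ⟨ConjClasses.mk (k c : G), k c, rfl,
    regular_of_dvd (Subgroup.orderOf_dvd_natCard K (k c).2) hK⟩) fun c d e => ?_
  rw [← hk c, ← hk d]
  exact ConjClasses.mk_eq_mk_iff_isConj.2 (conj_in_complement hVK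
    (ConjClasses.mk_eq_mk_iff_isConj.1 (congrArg Subtype.val e)))

/-- What is left once `O_{p'}` is factored out. -/
structure Split (p : ℕ) {G : Type u} [Group G] (V K : Subgroup G) : Prop where
  normal : V.Normal
  compl : V.IsComplement' K
  comm : ∀ a ∈ V, ∀ b ∈ V, a * b = b * a
  pow_eq : ∀ a ∈ V, a ^ p = 1
  ne_bot : V ≠ ⊥
  coprime : ¬ p ∣ Nat.card K
  self_cent : Subgroup.centralizer (V : Set G) ≤ V
  trans : ∀ a ∈ V, ∀ b ∈ V, a ≠ 1 → b ≠ 1 → ∃ k ∈ K, k * a * k⁻¹ = b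
  mem_of_order : ∀ x : G, (∃ k : ℕ, orderOf x = p ^ k) → x ∈ V
  card_eq : ∃ n, Nat.card V = p ^ n

theorem exists_split_structure (hsolv : Cfsg.IsPSolvable p G)
    (h0 : Cfsg.pPrimeCore p G = ⊥) (hdiv : p ∣ Nat.card G) (hconj : OneClass p G) :
    ∃ V K : Subgroup G, Split p V K := by
  haveI : Nontrivial G := Finite.one_lt_card_iff_nontrivial.1
    (lt_of_lt_of_le hp.out.one_lt (Nat.le_of_dvd Nat.card_pos hdiv))
  set V := Cfsg.pCore p G with hVdef
  haveI hVn : V.Normal := H10.pCore_normal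
  have hVne : V ≠ ⊥ := (H10.pCore_or_pPrimeCore_ne_bot hsolv).resolve_right (not_not.2 h0)
  have hVp : IsPGroup p V := H10.pCore_isPGroup
  obtain ⟨v₀, hv₀, hv₀1⟩ := (Subgroup.bot_or_exists_ne_one V).resolve_left hVne
  have hord : ∀ v ∈ V, ∃ k : ℕ, orderOf v = p ^ k := fun v hv => by
    obtain ⟨j, hj⟩ := IsPGroup.iff_orderOf.1 hVp ⟨v, hv⟩
    exact ⟨j, by rw [← hj, ← Subgroup.orderOf_coe]⟩
  have hmem : ∀ x : G, (∃ k : ℕ, orderOf x = p ^ k) → x ∈ V := by
    intro x hx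
    rcases eq_or_ne x 1 with rfl | hx1
    · exact one_mem V
    obtain ⟨g, rfl⟩ := isConj_iff.1 (hconj v₀ x hv₀1 hx1 (hord v₀ hv₀) hx)
    exact hVn.conj_mem v₀ hv₀ g
  obtain ⟨n, hn⟩ := hVp.exists_card_eq
  have hsyl : ∀ P : Sylow p G, (P : Subgroup G) = V := by
    intro P
    refine (P.3 hVp fun x hx => hmem x ?_).symm
    obtain ⟨j, hj⟩ := IsPGroup.iff_orderOf.1 P.2 ⟨x, hx⟩
    exact ⟨j, by rw [← hj, ← Subgroup.orderOf_coe]⟩
  obtain ⟨P⟩ : Nonempty (Sylow p G) := inferInstance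
  have hndvd : ¬ p ∣ V.index := hsyl P ▸ P.not_dvd_index
  obtain ⟨K, hK⟩ := Subgroup.exists_right_complement'_of_coprime (N := V)
    (by rw [hn]; exact ((hp.out.coprime_iff_not_dvd.2 hndvd)).pow_left n)
  have hKc : Nat.card K = V.index := hK.symm.index_eq_card.symm
  -- exponent and commutativity through the centre
  haveI : Nontrivial V := (Subgroup.nontrivial_iff_ne_bot V).2 hVne
  obtain ⟨z, hz, hz1⟩ := (Subgroup.bot_or_exists_ne_one (Subgroup.center V)).resolve_left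
    (fun h => by
      have := hVp.center_nontrivial
      rw [Subgroup.nontrivial_iff_ne_bot] at this
      exact this h)
  have hcomm : ∀ a ∈ V, ∀ b ∈ V, a * b = b * a := by
    intro a ha b hb
    rcases eq_or_ne a 1 with rfl | ha1
    · simp
    have hz1' : (z : G) ≠ 1 := fun e => hz1 (Subtype.ext e)
    obtain ⟨g, hg⟩ := isConj_iff.1 (hconj _ a hz1' ha1 (hord _ z.2) (hord a ha))
    have hb' : g⁻¹ * b * g ∈ V := by simpa using hVn.conj_mem b hb g⁻¹
    have h1 : g⁻¹ * b * g * (z : G) = z * (g⁻¹ * b * g) :=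
      congrArg Subtype.val (Subgroup.mem_center_iff.1 hz ⟨_, hb'⟩)
    calc a * b = g * ((z : G) * (g⁻¹ * b * g)) * g⁻¹ := by rw [← hg]; group
      _ = g * (g⁻¹ * b * g * (z : G)) * g⁻¹ := by rw [h1]
      _ = b * a := by rw [← hg]; group
  have hexp : ∀ a ∈ V, a ^ p = 1 := by
    have hd : p ∣ Nat.card V := by
      rw [hn]
      refine dvd_pow_self p fun e => ?_
      rw [e, pow_zero] at hn
      exact hVne (Subgroup.eq_bot_of_card_eq _ hn)
    obtain ⟨w, hw⟩ := exists_prime_orderOf_dvd_card' (G := V) p hd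
    intro a ha
    rcases eq_or_ne a 1 with rfl | ha1
    · exact one_pow p
    have hw1 : (w : G) ≠ 1 := fun e => hp.out.ne_one (by
      rw [← hw, ← Subgroup.orderOf_coe, e, orderOf_one])
    obtain ⟨g, hg⟩ := isConj_iff.1 (hconj _ a hw1 ha1 (hord _ w.2) (hord a ha))
    rw [← hg, conj_pow, show (w : G) ^ p = 1 by
      rw [← hw, ← Subgroup.orderOf_coe, pow_orderOf_eq_one], mul_one, mul_inv_cancel]
  refine ⟨V, K, hVn, hK, hcomm, hexp, hVne, hKc ▸ hndvd,
    H10.centralizer_pCore_le hsolv h0, ?_, hmem, n, hn⟩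
  intro a ha b hb ha1 hb1
  obtain ⟨g, hg⟩ := isConj_iff.1 (hconj a b ha1 hb1 (hord a ha) (hord b hb))
  obtain ⟨⟨v, k⟩, hvk⟩ := hK.2 g
  simp only at hvk
  refine ⟨k, k.2, ?_⟩
  have h1 : (k : G) * a * (k : G)⁻¹ ∈ V := hVn.conj_mem a ha _
  rw [← hg, ← hvk]
  calc (k : G) * a * (k : G)⁻¹ = (v : G) * ((k : G) * a * (k : G)⁻¹) * (v : G)⁻¹ := by
        rw [hcomm _ v.2 _ h1, mul_inv_cancel_right]
    _ = (v : G) * k * a * ((v : G) * k)⁻¹ := by group

namespace Split

variable {V K : Subgroup G}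

theorem eq_one_of_fix_all (h : Split p V K) {k : G} (hk : k ∈ K)
    (hfix : ∀ a ∈ V, k * a * k⁻¹ = a) : k = 1 := by
  have hmem : k ∈ V := h.self_cent (Subgroup.mem_centralizer_iff.2 fun a ha =>
    (mul_inv_eq_iff_eq_mul.1 (hfix a ha)).symm)
  exact Subgroup.mem_bot.1 (h.compl.disjoint.le_bot ⟨hmem, hk⟩)

theorem card_mul (h : Split p V K) : Nat.card V * Nat.card K = Nat.card G := h.compl.card_mul_card

end Split

end H13.TwoClass
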